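import Groth.Agent.CurvesC.Modif
import Groth.Agent.CalgA.NagAss
import Groth.Agent.Ega3B.NormalBirational
import Mathlib.AlgebraicGeometry.Normalization

/-!
# The normalization of an integral scheme: finiteness, birationality, universal property

* `isFinite_normalizationι_iff`: the normalization is finite iff the rings of sections over affine opens are N-1.
* `isModif_normalizationι`: a finite normalization is a modification.
* `exists_fac`: dominant morphisms from normal integral schemes factor through the normalization.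
-/

set_option autoImplicit false
universe u

open CategoryTheory CategoryTheory.Limits AlgebraicGeometry TopologicalSpace Opposite
open Groth.Agent Groth.Agent.CurvesC.NormNagata Groth.Agent.CurvesC.Modif Groth.Agent.CurvesC.ModDim

namespace K372.NormFac

variable (X : Scheme.{u}) [IsIntegral X]
  [QuasiCompact (X.fromSpecStalk (genericPoint X))] [QuasiSeparated (X.fromSpecStalk (genericPoint X))]

/-- `Γ(X, V)` is N-1 iff the sections of the normalization over `V` are finite over it. -/
theorem isN1_iff (V : X.Opens) (hV : IsAffineOpen V) [hne : Nonempty V] :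
    CAlg.IsN1 Γ(X, V) ↔ ((Curv2.normalizationι X).app V).hom.Finite := by
  have hη : genericPoint X ∈ V := ((genericPoint_spec X).mem_open_set_iff V.isOpen).mpr (by
    obtain ⟨x⟩ := hne
    exact ⟨x.1, trivial, x.2⟩)
  change _ ↔ ((X.fromSpecStalk (genericPoint X)).fromNormalization.app V).hom.Finite
  rw [Scheme.Hom.fromNormalization_app _ hV, CommRingCat.hom_comp]
  have hbij := ConcreteCategory.bijective_of_isIso ((X.fromSpecStalk (genericPoint X)).normalizationObjIso hV).inv
  let algK : Algebra Γ(X, V) Γ(Spec (X.presheaf.stalk (genericPoint X)),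
    (X.fromSpecStalk (genericPoint X)) ⁻¹ᵁ V) := ((X.fromSpecStalk (genericPoint X)).app V).hom.toAlgebra
  have h1 := isFractionRing X V hV hη
  have e : integralClosure Γ(X, V) (FractionRing Γ(X, V)) ≃ₐ[Γ(X, V)] integralClosure Γ(X, V)
      Γ(Spec (X.presheaf.stalk (genericPoint X)), (X.fromSpecStalk (genericPoint X)) ⁻¹ᵁ V) :=
    AlgEquiv.mapIntegralClosure (IsLocalization.algEquiv (nonZeroDivisors Γ(X, V)) _ _)
  have h2 : CAlg.IsN1 Γ(X, V) ↔ Module.Finite Γ(X, V) (integralClosure Γ(X, V)
      Γ(Spec (X.presheaf.stalk (genericPoint X)), (X.fromSpecStalk (genericPoint X)) ⁻¹ᵁ V)) :=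
    Module.Finite.equiv_iff e.toLinearEquiv
  rw [h2, ← RingHom.finite_algebraMap]
  constructor
  · intro h
    exact RingHom.Finite.comp (RingHom.Finite.of_surjective _ hbij.2) h
  · intro h
    let ψ := (asIso ((X.fromSpecStalk (genericPoint X)).normalizationObjIso hV).inv).commRingCatIsoToRingEquiv
    have h3 := RingHom.Finite.comp (RingHom.Finite.of_surjective ψ.symm.toRingHom ψ.symm.surjective) h
    convert h3 using 1
    refine RingHom.ext fun x => ?_
    exact (ψ.symm_apply_apply (algebraMap _ _ x)).symm

theorem isFinite_normalizationι_iff :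
    IsFinite (Curv2.normalizationι X) ↔ ∀ (V : X.Opens) (_ : IsAffineOpen V) (_ : Nonempty V), CAlg.IsN1 Γ(X, V) := by
  constructor
  · intro h V hV hne
    rw [isN1_iff X V hV]
    exact ((isFinite_iff _).mp h).2 V hV
  · intro h
    refine (isFinite_iff _).mpr ⟨?_, ?_⟩
    · change IsAffineHom (X.fromSpecStalk (genericPoint X)).fromNormalization
      infer_instance
    · intro V hV
      by_cases hne : Nonempty V
      · exact (isN1_iff X V hV).1 (h V hV hne)
      · have hV0 : V = ⊥ := by
          rw [← TopologicalSpace.Opens.not_nonempty_iff_eq_bot]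
          rintro ⟨x, hx⟩
          exact hne ⟨⟨x, hx⟩⟩
        subst hV0
        have h1 : Subsingleton Γ(X, ⊥) := inferInstance
        exact finite_of_subsingleton _

/-- A finite normalization is a modification. -/
theorem isModif_normalizationι (h : IsFinite (Curv2.normalizationι X)) : IsModif (Curv2.normalizationι X) := by
  obtain ⟨hint, hnorm, -, -⟩ := Groth.Agent.S2351.result X
  refine ⟨inferInstance, hint, ?_⟩
  obtain ⟨_, ⟨V, hV, rfl⟩, hηV, -⟩ :=
    X.isBasis_affineOpens.exists_subset_of_mem_open (Set.mem_univ (genericPoint X)) isOpen_univ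
  replace hV : IsAffineOpen V := hV
  replace hηV : genericPoint X ∈ V := hηV
  have hne : Nonempty V := ⟨⟨_, hηV⟩⟩
  have hN1 := (isFinite_normalizationι_iff X).1 h V hV hne
  obtain ⟨f, hf, hcl⟩ := CalgA.NagAss.exists_isIntegrallyClosed_away hN1
  have hD : IsAffineOpen (X.basicOpen f) := hV.basicOpen f
  have hloc : IsLocalization.Away f Γ(X, X.basicOpen f) := hV.isLocalization_basicOpen f
  have hle : X.basicOpen f ≤ V := X.basicOpen_le f
  have hηD : genericPoint X ∈ X.basicOpen f := by
    refine ((genericPoint_spec X).mem_open_set_iff (X.basicOpen f).isOpen).mpr ?_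
    rw [Set.univ_inter]
    by_contra hcon
    rw [Set.not_nonempty_iff_eq_empty] at hcon
    exact hf ((basicOpen_eq_bot_iff f).mp (SetLike.coe_injective hcon))
  have h6 : IsIntegrallyClosed Γ(X, X.basicOpen f) := by
    have e : Localization.Away f ≃ₐ[Γ(X, V)] Γ(X, X.basicOpen f) :=
      IsLocalization.algEquiv (Submonoid.powers f) _ _
    exact IsIntegrallyClosed.of_equiv e.toRingEquiv
  exact ⟨X.basicOpen f, ⟨_, hηD⟩, isIso_normalizationι_restrict X _ hD hηD h6⟩

/-- The normalization of a normal scheme is an isomorphism. -/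
theorem isIso_normalizationι (hX : Pi1.IsNormalScheme X) : IsIso (Curv2.normalizationι X) := by
  have key : ∀ x : X, ∃ V : X.Opens, x ∈ V ∧ IsIso (Curv2.normalizationι X ∣_ V) := by
    intro x
    obtain ⟨_, ⟨V, hV, rfl⟩, hxV, -⟩ :=
      X.isBasis_affineOpens.exists_subset_of_mem_open (Set.mem_univ x) isOpen_univ
    replace hV : IsAffineOpen V := hV
    replace hxV : x ∈ V := hxV
    have hη : genericPoint X ∈ V := ((genericPoint_spec X).mem_open_set_iff V.isOpen).mpr ⟨x, trivial, hxV⟩
    have hne : Nonempty V := ⟨⟨_, hη⟩⟩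
    exact ⟨V, hxV, isIso_normalizationι_restrict X V hV hη
      (Ega3B.NormalBirational.isIntegrallyClosed_section (fun y => (hX y).2) V hV)⟩
  choose V hxV hV using key
  refine IsZariskiLocalAtTarget.of_iSup_eq_top (P := MorphismProperty.isomorphisms Scheme.{u}) V ?_ hV
  rw [eq_top_iff]
  intro x _
  exact Opens.mem_iSup.mpr ⟨x, hxV x⟩

/-- The morphism between the generic points. -/
theorem exists_generic {X Y : Scheme.{u}} [IsIntegral X] [IsIntegral Y] (g : X ⟶ Y)
    (hg : g (genericPoint X) = genericPoint Y) :
    ∃ m : Spec (X.presheaf.stalk (genericPoint X)) ⟶ Spec (Y.presheaf.stalk (genericPoint Y)),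
      m ≫ Y.fromSpecStalk (genericPoint Y) = X.fromSpecStalk (genericPoint X) ≫ g := by
  have key : ∀ y, g (genericPoint X) = y →
      ∃ m : Spec (X.presheaf.stalk (genericPoint X)) ⟶ Spec (Y.presheaf.stalk y),
        m ≫ Y.fromSpecStalk y = X.fromSpecStalk (genericPoint X) ≫ g := by
    rintro _ rfl
    exact ⟨Spec.map (g.stalkMap _), Scheme.SpecMap_stalkMap_fromSpecStalk ..⟩
  exact key _ hg

/-- Dominant morphisms from normal integral schemes factor through integral morphisms with a rational section. -/
theorem exists_fac_aux {X Y N : Scheme.{u}} [IsIntegral X] [IsIntegral Y]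
    [QuasiCompact (X.fromSpecStalk (genericPoint X))] [QuasiSeparated (X.fromSpecStalk (genericPoint X))]
    (hX : Pi1.IsNormalScheme X) (g : X ⟶ Y) (hg : g (genericPoint X) = genericPoint Y)
    (ν : N ⟶ Y) [IsIntegralHom ν] (τ : Spec (Y.presheaf.stalk (genericPoint Y)) ⟶ N)
    (hν : τ ≫ ν = Y.fromSpecStalk (genericPoint Y)) : ∃ h : X ⟶ N, h ≫ ν = g := by
  obtain ⟨m, hm⟩ := exists_generic g hg
  have hiso : IsIso (X.fromSpecStalk (genericPoint X)).fromNormalization := isIso_normalizationι X hX
  let f₂ : pullback g ν ⟶ X := pullback.fst g ν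
  have hf₂ : IsIntegralHom f₂ := inferInstance
  let f₁ : Spec (X.presheaf.stalk (genericPoint X)) ⟶ pullback g ν :=
    pullback.lift (X.fromSpecStalk (genericPoint X)) (m ≫ τ) (by rw [Category.assoc, hν, hm])
  have H : X.fromSpecStalk (genericPoint X) = f₁ ≫ f₂ := (pullback.lift_fst _ _ _).symm
  let d : (X.fromSpecStalk (genericPoint X)).normalization ⟶ pullback g ν :=
    (X.fromSpecStalk (genericPoint X)).normalizationDesc f₁ f₂ H
  have hd : d ≫ f₂ = (X.fromSpecStalk (genericPoint X)).fromNormalization :=
    Scheme.Hom.normalizationDesc_comp _ _ _ H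
  refine ⟨inv (X.fromSpecStalk (genericPoint X)).fromNormalization ≫ d ≫ pullback.snd g ν, ?_⟩
  rw [Category.assoc, Category.assoc, ← pullback.condition]
  change _ ≫ d ≫ f₂ ≫ g = g
  rw [← Category.assoc d, hd, IsIso.inv_hom_id_assoc]

/-- Dominant morphisms from normal integral schemes factor through the normalization. -/
theorem exists_fac {X Y : Scheme.{u}} [IsIntegral X] [IsIntegral Y]
    [QuasiCompact (X.fromSpecStalk (genericPoint X))] [QuasiSeparated (X.fromSpecStalk (genericPoint X))]
    [QuasiCompact (Y.fromSpecStalk (genericPoint Y))] [QuasiSeparated (Y.fromSpecStalk (genericPoint Y))]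
    (hX : Pi1.IsNormalScheme X) (g : X ⟶ Y) (hg : g (genericPoint X) = genericPoint Y) :
    ∃ h : X ⟶ Curv2.normalization Y, h ≫ Curv2.normalizationι Y = g := by
  have hint : IsIntegralHom (Curv2.normalizationι Y) :=
    inferInstanceAs (IsIntegralHom (Y.fromSpecStalk (genericPoint Y)).fromNormalization)
  exact exists_fac_aux hX g hg (Curv2.normalizationι Y) (Y.fromSpecStalk (genericPoint Y)).toNormalization
    (Scheme.Hom.toNormalization_fromNormalization _)

end K372.NormFac
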