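import Groth.Agent.Resolve.K372.QPContr
import Groth.Agent.RelProj.K823.DenseQP
import Groth.Agent.S8910
import Groth.Agent.S4418
import Groth.Agent.S2333
import Groth.Agent.S2331

/-!
# Quasi-projectivity along sequences of contractions

* `comp`, `of_comp`: composition and cancellation of quasi-projective morphisms.
* `of_isContractionOf`, `of_isContractionSeq`: contractions (sequences) are quasi-projective.
* `desc_isContractionOf`, `desc_isContractionSeq`: quasi-projectivity descends along contractions.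
-/

set_option autoImplicit false
universe u

open CategoryTheory CategoryTheory.Limits AlgebraicGeometry TopologicalSpace Opposite

namespace K372.RegQP

open Groth.Agent

variable {X Y Z S : Scheme.{u}}

theorem comp [CompactSpace Z] {f : X ⟶ Y} {g : Y ⟶ Z} (hf : RelProj.IsQuasiProjective f)
    (hg : RelProj.IsQuasiProjective g) : RelProj.IsQuasiProjective (f ≫ g) := by
  obtain ⟨h1, h2, L, hL⟩ := hf
  obtain ⟨h3, h4, K, hK⟩ := hg
  obtain ⟨n, -, hn⟩ := S2331.result f g L K hL hK
  exact ⟨inferInstance, inferInstance, _, hn n le_rfl⟩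

theorem of_comp (f : X ⟶ Y) (g : Y ⟶ Z) [LocallyOfFiniteType f] [QuasiCompact f]
    (h : RelProj.IsQuasiProjective (f ≫ g)) : RelProj.IsQuasiProjective f := by
  obtain ⟨-, -, L, hL⟩ := h
  exact ⟨inferInstance, inferInstance, L, S2333.result f g L hL⟩

theorem comp_iso (e : X ⟶ Y) [IsIso e] {f : Y ⟶ S} (h : RelProj.IsQuasiProjective f) :
    RelProj.IsQuasiProjective (e ≫ f) :=
  K823.DenseQP.isQuasiProjective_of_embedding h e e.isOpenEmbedding.isEmbedding

theorem of_isContractionOf {E Y Z : Scheme.{u}} (ι : E ⟶ Y) (b : Y ⟶ Z) (hb : Models.IsContractionOf ι b) :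
    RelProj.IsQuasiProjective b := by
  obtain ⟨hN, hprop, y, hy, hrange, hreg, hdim, hbl⟩ := hb
  exact (S4418.result b (S8910.result _ (fun U => by
    have := IsLocallyNoetherian.component_noetherian (X := Z) U
    exact IsNoetherian.noetherian _) b hbl)).1

theorem apply_eq {E Y Z : Scheme.{u}} {ι : E ⟶ Y} {b : Y ⟶ Z} (hb : Models.IsContractionOf ι b) (e e' : E) :
    b (ι e) = b (ι e') := by
  obtain ⟨hN, hprop, y, hy, hrange, hreg, hdim, hbl⟩ := hb
  have h : ∀ e : E, b (ι e) = y := fun e => by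
    have h1 : (ι ≫ b) e ∈ ({y} : Set Z) := by rw [← hrange]; exact ⟨e, rfl⟩
    rw [Scheme.Hom.comp_apply] at h1
    exact h1
  rw [h, h]

/-- Quasi-projectivity descends along a contraction. -/
theorem desc_isContractionOf [IsNoetherian S] {E Y Z : Scheme.{u}} (ι : E ⟶ Y) [IsClosedImmersion ι]
    (hE : Models.IsExcCurve ι) (b : Y ⟶ Z) (hb : Models.IsContractionOf ι b) (r : Z ⟶ S)
    (h : RelProj.IsQuasiProjective (b ≫ r)) : RelProj.IsQuasiProjective r := by
  have hne : Nonempty E := (Contr.isIntegral_of_isExcCurve hE).1.nonempty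
  obtain ⟨e₀⟩ := hne
  obtain ⟨X', b', g, hb', hg, hgq⟩ := QPContr.exists_contraction_quasiProjective (b ≫ r) h ι hE (r (b (ι e₀))) (by
    ext z
    constructor
    · rintro ⟨e, rfl⟩
      have h1 : (ι ≫ b ≫ r) e = r (b (ι e₀)) := by
        rw [Scheme.Hom.comp_apply, Scheme.Hom.comp_apply, apply_eq hb e e₀]
      exact h1
    · rintro rfl
      refine ⟨e₀, ?_⟩
      have h1 : (ι ≫ b ≫ r) e₀ = r (b (ι e₀)) := by
        rw [Scheme.Hom.comp_apply, Scheme.Hom.comp_apply]
      exact h1)
  obtain ⟨ψ, hψ, -⟩ := Contr.existsUnique_desc ι hE b hb b' (apply_eq hb')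
  obtain ⟨φ, hφ, -⟩ := Contr.existsUnique_desc ι hE b' hb' b (apply_eq hb)
  have h1 : ψ ≫ φ = 𝟙 Z := by
    obtain ⟨θ, -, hθ⟩ := Contr.existsUnique_desc ι hE b hb b (apply_eq hb)
    have e1 : b ≫ ψ ≫ φ = b := by rw [← Category.assoc, hψ, hφ]
    exact (hθ _ e1).trans (hθ _ (Category.comp_id b)).symm
  have h2 : φ ≫ ψ = 𝟙 X' := by
    obtain ⟨θ, -, hθ⟩ := Contr.existsUnique_desc ι hE b' hb' b' (apply_eq hb')
    have e1 : b' ≫ φ ≫ ψ = b' := by rw [← Category.assoc, hφ, hψ]
    exact (hθ _ e1).trans (hθ _ (Category.comp_id b')).symm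
  have h3 : ψ ≫ g = r := by
    obtain ⟨θ, -, hθ⟩ := Contr.existsUnique_desc ι hE b hb (b ≫ r) (fun e e' => by
      rw [Scheme.Hom.comp_apply, Scheme.Hom.comp_apply, apply_eq hb e e'])
    have e1 : b ≫ ψ ≫ g = b ≫ r := by rw [← Category.assoc, hψ, hg]
    exact (hθ _ e1).trans (hθ _ rfl).symm
  have h4 : IsIso ψ := ⟨φ, h1, h2⟩
  rw [← h3]
  exact comp_iso ψ hgq

theorem of_isIso (e : X ⟶ Y) [IsIso e] : RelProj.IsQuasiProjective e :=
  ⟨inferInstance, inferInstance, Coh.structureModule X,
    (S2337.result e).mp (S2341.result e e.isOpenEmbedding.isEmbedding)⟩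

theorem of_isContractionSeq {Y X : Scheme.{u}} {r : Y ⟶ X} (h : Models.IsContractionSeq r) :
    CompactSpace X → RelProj.IsQuasiProjective r := by
  induction h with
  | iso e => exact fun _ => of_isIso e.hom
  | step ι b r hι hE hb hr ih => exact fun h => comp (of_isContractionOf ι b hb) (ih h)

/-- Quasi-projectivity descends along a sequence of contractions. -/
theorem desc_isContractionSeq [IsNoetherian S] {Y X : Scheme.{u}} {r : Y ⟶ X} (h : Models.IsContractionSeq r)
    (f : X ⟶ S) (hq : RelProj.IsQuasiProjective (r ≫ f)) : RelProj.IsQuasiProjective f := by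
  induction h with
  | iso e =>
    have h1 : f = e.inv ≫ e.hom ≫ f := by simp
    rw [h1]
    exact comp_iso e.inv hq
  | step ι b r hι hE hb hr ih =>
    refine ih f (desc_isContractionOf ι hE b hb (r ≫ f) ?_)
    rwa [← Category.assoc]

end K372.RegQP
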