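import Groth.Agent.Models.H69.Contr
import Groth.Agent.Dix.Descend515
import Groth.Agent.S1571
import Groth.Agent.CohqA.ProjDim
import Groth.Agent.CycA.ProdDim
import Groth.Agent.Ega3B.ProjProper
import Groth.Agent.Sga5.ProjSmooth
import Mathlib.RingTheory.KrullDimension.Polynomial
import Groth.Prelude.Def_ModelsG

/-!
# Contractions of exceptional curves: sections and the universal property

`b : X ⟶ X'` is the blowing up of a closed point `y` of a locally Noetherian scheme with `O_{X',y}` of depth at least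
two.  Then `b.app V` is bijective for every open `V`; no integrality is assumed.
-/

set_option autoImplicit false
universe u

open CategoryTheory CategoryTheory.Limits AlgebraicGeometry TopologicalSpace Opposite

namespace K372.Contr

open Groth.Agent.Dix.PointIdeal Groth.Agent.Models.H69.Contr Groth.Agent.Ega4dB.DepthExt

/-- Restriction to the complement of an effective Cartier divisor is injective on sections. -/
theorem res_injective_of_isEff {X : Scheme.{u}} {D : X.IdealSheafData} (hD : BlowUp.IsEffCartierIdeal D) {W W' : X.Opens}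
    (h : W' ≤ W) (hW' : ∀ x ∈ W, x ∉ D.support → x ∈ W') : Function.Injective (res X h) := by
  have h1 := Groth.Agent.S1571.result X D hD
  have h2 := h1.1
  have h3 := h1.2
  set V : X.Opens := D.support.compl with hV
  have h4 := V.ι.app_injective W
  rw [injective_iff_map_eq_zero]
  intro s hs
  rw [injective_iff_map_eq_zero] at h4
  apply h4
  rw [Scheme.Opens.ι_app]
  have h5 : V.ι ''ᵁ V.ι ⁻¹ᵁ W ≤ W' := by
    rintro _ ⟨x, hx, rfl⟩
    exact hW' _ hx x.2
  have h6 : (X.presheaf.map (homOfLE (x := V.ι ''ᵁ V.ι ⁻¹ᵁ W) (y := W)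
      (h5.trans h)).op).hom s = (X.presheaf.map (homOfLE h5).op).hom (res X h s) := by
    change _ = (X.presheaf.map _).hom ((X.presheaf.map _).hom s)
    rw [← CommRingCat.comp_apply, ← Functor.map_comp]
    rfl
  refine h6.trans ?_
  rw [hs]
  exact map_zero _

variable {X X' : Scheme.{u}} {b : X ⟶ X'} {y : X'} {hy : IsClosed ({y} : Set X')}

lemma mem_preimage_compl {x : X} {V : X'.Opens} (hx : x ∈ b ⁻¹ᵁ V) (h : x ∉ ((pt y hy).comap b).support) :
    x ∈ b ⁻¹ᵁ (V ⊓ compl y hy) := by
  refine ⟨hx, fun h0 => h ?_⟩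
  rw [Scheme.IdealSheafData.support_comap]
  exact (mem_support_pt y hy (b x)).mpr h0

/-- Functions on `b⁻¹(V)` are functions on `V`. -/
theorem bijective_app [IsLocallyNoetherian X'] (hb : BlowUp.IsBlowUp b (pt y hy))
    (hdepth : 2 ≤ LocCoh.depth (X'.presheaf.stalk y) (X'.presheaf.stalk y)) (V : X'.Opens) :
    Function.Bijective (b.app V).hom := by
  set U : X'.Opens := compl y hy with hU
  have hiso : IsIso (b ∣_ U) := isIso_compl y hy hb
  have h1 : Function.Bijective (res X' (inf_le_left : V ⊓ U ≤ V)) := by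
    refine Groth.Agent.Ega4dB.DepthExt2.res_bijective U V (fun x _ hx => ?_)
    obtain rfl : x = y := by
      by_contra hc; exact hx hc
    exact hdepth
  have h2 : IsIso (b.app (V ⊓ U)) := Groth.Agent.Dix.Descend515.isIso_app_of_le b U hiso _ inf_le_right
  have h3 : Function.Bijective (b.app (V ⊓ U)).hom :=
    (ConcreteCategory.isIso_iff_bijective (b.app (V ⊓ U))).mp h2
  have hle : b ⁻¹ᵁ (V ⊓ U) ≤ b ⁻¹ᵁ V := fun x hx => hx.1
  have h4 : ∀ s : Γ(X', V), (b.app (V ⊓ U)).hom (res X' (inf_le_left : V ⊓ U ≤ V) s) =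
      res X hle ((b.app V).hom s) := by
    intro s
    exact congrArg (fun k => k.hom s) (Scheme.Hom.naturality b (homOfLE (inf_le_left : V ⊓ U ≤ V)).op)
  have h5 : Function.Injective (res X hle) :=
    res_injective_of_isEff hb.1 hle (fun x hx hx' => mem_preimage_compl hx hx')
  have h6 : Function.Bijective (res X hle ∘ (b.app V).hom) := by
    have : (res X hle ∘ (b.app V).hom) = (b.app (V ⊓ U)).hom ∘ (res X' (inf_le_left : V ⊓ U ≤ V)) := by
      funext s; exact (h4 s).symm
    rw [this]
    exact h3.comp h1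
  refine ⟨fun a b hab => h6.1 (congrArg (res X hle) hab), fun t => ?_⟩
  obtain ⟨s, hs⟩ := h6.2 (res X hle t)
  exact ⟨s, h5 hs⟩

/-- The projective line has dimension at least one. -/
theorem one_le_topologicalKrullDim_P1 (k : Type u) [Field k] :
    1 ≤ topologicalKrullDim (CohB1.ProjSpace 1 k) := by
  have hp : IsProper (CohB1.ProjSpace.toSpec 1 k) := Groth.Agent.Ega3B.ProjProper.isProper_toSpec 1 k
  have h := Groth.Agent.CycA.ProdDim.dim_of_isOpenImmersion (CohB1.ProjSpace.toSpec 1 k)
    (Groth.Agent.Sga5.ProjSmooth.chart 1 k 0)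
  have h1 : topologicalKrullDim (Spec (CommRingCat.of (MvPolynomial (Fin 1) k))) = 1 := by
    have h2 := PrimeSpectrum.topologicalKrullDim_eq_ringKrullDim (R := MvPolynomial (Fin 1) k)
    refine h2.trans ?_
    rw [MvPolynomial.ringKrullDim_of_isNoetherianRing, ringKrullDim_eq_zero_of_field]
    simp
  exact (h.symm.trans h1).ge

theorem isIntegral_of_isExcCurve {E X : Scheme.{u}} {ι : E ⟶ X} (hE : Models.IsExcCurve ι) :
    IsIntegral E ∧ 1 ≤ topologicalKrullDim E := by
  obtain ⟨-, k, _, e, -⟩ := hE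
  have h1 : IsIntegral (CohB1.ProjSpace 1 k) := inferInstance
  refine ⟨IsIntegral.of_isIso e.hom, ?_⟩
  rw [← (Scheme.homeoOfIso e).isHomeomorph.topologicalKrullDim_eq]
  exact one_le_topologicalKrullDim_P1 k

/-- The universal property of a contraction. -/
theorem existsUnique_desc {E X X' : Scheme.{u}} (ι : E ⟶ X) [IsClosedImmersion ι]
    (hE : Models.IsExcCurve ι) (b : X ⟶ X') (hb : Models.IsContractionOf ι b)
    {Y : Scheme.{u}} (φ : X ⟶ Y) (hφ : ∀ e e' : E, φ (ι e) = φ (ι e')) :
    ∃! ψ : X' ⟶ Y, b ≫ ψ = φ := by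
  obtain ⟨hE1, hE2⟩ := isIntegral_of_isExcCurve hE
  obtain ⟨hN, hprop, y, hy, hrange, hreg, hdim, hbl⟩ := hb
  have hr : Set.range ι = b ⁻¹' {y} := range_eq (hy := hy) ι hbl hreg hdim hE2 hrange
  have hex : ∃ x, b x = y := by
    have : y ∈ Set.range ((ι ≫ b).base : E → X') := by rw [hrange]; rfl
    obtain ⟨e, he⟩ := this
    exact ⟨ι e, by rw [← Scheme.Hom.comp_apply]; exact he⟩
  have hsurj : Surjective b := surjective (hy := hy) hbl hex
  have hbij := fun V => bijective_app (hy := hy) hbl (Groth.Agent.Dix.Descend515.two_le_depth hdim) V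
  have hquot : Topology.IsQuotientMap b := b.isClosedMap.isQuotientMap b.continuous b.surjective
  refine Groth.Agent.Sga1.DescHom.existsUnique_desc b φ hquot (fun V => (hbij V).1) ?_ ?_
  · intro a c hac
    by_cases ha : b a = y
    · have h1 : a ∈ Set.range ι := by rw [hr]; exact ha
      have h2 : c ∈ Set.range ι := by rw [hr]; exact hac.symm.trans ha
      obtain ⟨e, rfl⟩ := h1
      obtain ⟨e', rfl⟩ := h2
      exact hφ e e'
    · rw [eq_of_apply_eq (hy := hy) hbl a c ha hac]
  · intro W V e f
    exact (hbij V).2 _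

end K372.Contr
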