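import Groth.Agent.Sga3C.QFlatOpen
import Groth.Agent.CurvesB.DimPts
import Groth.Agent.Fdesc.IntegralFib
import Groth.Agent.S0565
import Groth.Prelude.Def_Pi1
import Mathlib.RingTheory.Flat.TorsionFree
import Mathlib.AlgebraicGeometry.Morphisms.Proper
import Mathlib.RingTheory.DiscreteValuationRing.TFAE

/-!
# The singular points of a normal surface with a regular alteration

* `exists_finite_flat`: for a proper morphism from an integral scheme onto a normal Noetherian surface, all but finitely
  many points `y` (all of them closed) of the target are images of points where the morphism is flat.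
* `ringKrullDim_stalk_le_of_isIntegralHom`.
-/

set_option autoImplicit false
universe u

open CategoryTheory CategoryTheory.Limits AlgebraicGeometry TopologicalSpace Opposite Order
open Groth.Agent

namespace K372.FinSing

/-- Integral morphisms do not raise the codimension of points. -/
theorem ringKrullDim_stalk_le_of_isIntegralHom {X Y : Scheme.{u}} (f : X ⟶ Y) [IsIntegralHom f] (x : X) :
    ringKrullDim (X.presheaf.stalk x) ≤ ringKrullDim (Y.presheaf.stalk (f x)) := by
  rw [ringKrullDim_stalk_eq_coheight, ringKrullDim_stalk_eq_coheight]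
  have h1 : StrictMono f := by
    intro a b hab
    refine lt_of_le_not_ge (hab.le.map f.continuous) fun h => ?_
    have h2 : f a = f b := ((hab.le.map f.continuous).antisymm h).eq.symm
    have h3 : b ⤳ a := hab.le
    have := Fdesc.IntegralFib.eq_of_specializes_of_isIntegralHom f h3 h2.symm
    exact hab.ne this.symm
  exact_mod_cast coheight_le_coheight_apply_of_strictMono f h1 x

/-- In a scheme whose local rings have dimension at most two, points of codimension two are closed. -/
theorem isClosed_of_two_le {X : Scheme.{u}} [QuasiSober X] (hdim : ∀ x : X, ringKrullDim (X.presheaf.stalk x) ≤ 2) (x : X)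
    (hx : 2 ≤ ringKrullDim (X.presheaf.stalk x)) : IsClosed ({x} : Set X) := by
  by_contra hcon
  obtain ⟨y, hy⟩ : ∃ y : X, y < x := by
    by_contra hc
    push Not at hc
    apply hcon
    rw [← closure_eq_iff_isClosed]
    apply Set.eq_singleton_iff_unique_mem.mpr
    refine ⟨subset_closure (Set.mem_singleton x), fun y hy => ?_⟩
    by_contra hyx
    have h1 : x ⤳ y := specializes_iff_mem_closure.mpr hy
    exact hc y (lt_of_le_not_ge h1 (fun h2 : y ⤳ x => hyx (h2.antisymm h1).eq))
  have h1 := coheight_add_one_le hy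
  have h2 := hdim y
  rw [ringKrullDim_stalk_eq_coheight] at h2 hx
  have h3 : coheight y ≤ 2 := WithBot.coe_le_coe.mp (by exact h2)
  have h4 : 2 ≤ coheight x := WithBot.coe_le_coe.mp (by exact hx)
  have h5 : (2 : ℕ∞) + 1 ≤ 2 := (add_le_add_left h4 1).trans (h1.trans h3)
  exact absurd h5 (by decide)

/-- A closed subset of a Noetherian space all of whose points are closed is finite. -/
theorem finite_of_isClosed_points {T : Type u} [TopologicalSpace T] [QuasiSober T]
    [NoetherianSpace T] {S : Set T} (hS : IsClosed S) (hc : ∀ x ∈ S, IsClosed ({x} : Set T)) :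
    S.Finite := by
  obtain ⟨t, ht, ht2, ht3⟩ := NoetherianSpace.exists_finite_set_isClosed_irreducible hS
  rw [ht3.2]
  refine ht.sUnion fun Z hZ => ?_
  obtain ⟨x, hx⟩ := QuasiSober.sober (ht3.1 Z hZ) (ht2 Z hZ)
  have hxZ : x ∈ Z := hx.mem
  have hZS : Z ⊆ S := by
    rw [ht3.2]
    exact Set.subset_sUnion_of_mem hZ
  have h2 : Z = {x} := by
    rw [← hx.def, (hc x (hZS hxZ)).closure_eq]
  rw [h2]
  exact Set.finite_singleton x

/-- Normal Noetherian local domains of dimension at most one are principal. -/
theorem isPrincipalIdealRing_of_normal (R : Type u) [CommRing R] [IsLocalRing R] [IsNoetherianRing R] [IsDomain R]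
    [IsIntegrallyClosed R] (hd : ringKrullDim R ≤ 1) : IsPrincipalIdealRing R := by
  have hT : (IsIntegrallyClosed R ∧ ∀ P : Ideal R, P ≠ ⊥ → P.IsPrime → P = IsLocalRing.maximalIdeal R) ↔
      IsPrincipalIdealRing R := (tfae_of_isNoetherianRing_of_isLocalRing_of_isDomain R).out 3 0
  refine hT.mp ⟨inferInstance, ?_⟩
  intro P hP hPp
  have : Ring.KrullDimLE 1 R := Ring.krullDimLE_iff.mpr hd
  have h2 := Ring.krullDimLE_one_iff_of_isPrime_bot.mp this P hP hPp
  exact IsLocalRing.eq_maximalIdeal h2

/-- Normal Noetherian local domains of dimension at most one are regular. -/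
theorem isRegular_of_normal (R : Type u) [CommRing R] [IsLocalRing R] [IsNoetherianRing R] [IsDomain R]
    [IsIntegrallyClosed R] (hd : ringKrullDim R ≤ 1) : IsRegularLocalRing R := by
  have := isPrincipalIdealRing_of_normal R hd
  infer_instance

/-- Torsion-free modules over normal Noetherian local domains of dimension at most one are flat. -/
theorem flat_of_dim_le_one (R S : Type u) [CommRing R] [IsLocalRing R] [IsNoetherianRing R] [IsDomain R]
    [IsIntegrallyClosed R] (hd : ringKrullDim R ≤ 1) [CommRing S] [IsDomain S] [Algebra R S]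
    (hinj : Function.Injective (algebraMap R S)) : Module.Flat R S := by
  have h1 := isPrincipalIdealRing_of_normal R hd
  rw [Module.Flat.flat_iff_torsion_eq_bot_of_isBezout]
  rw [eq_bot_iff]
  rintro x ⟨a, ha⟩
  have h2 : algebraMap R S a.1 * x = 0 := by
    rw [← Algebra.smul_def]; exact ha
  rcases mul_eq_zero.mp h2 with h3 | h3
  · exact absurd (hinj (h3.trans (map_zero _).symm)) (nonZeroDivisors.ne_zero a.2)
  · exact h3

/-- Dominant morphisms of integral schemes are injective on local rings. -/
theorem stalkMap_injective {X Y : Scheme.{u}} [IsIntegral X] [IsIntegral Y] (f : X ⟶ Y)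
    (hf : f (genericPoint X) = genericPoint Y) (x : X) : Function.Injective (f.stalkMap x).hom := by
  rw [injective_iff_map_eq_zero]
  intro a ha
  obtain ⟨V, hxV, s, rfl⟩ := Y.presheaf.exists_germ_eq a
  have h1 : X.presheaf.germ (f ⁻¹ᵁ V) x hxV (f.app V s) = 0 := by
    rw [← ha]
    exact (f.germ_stalkMap_apply V x hxV s).symm
  have h2 : f.app V s = 0 := germ_injective_of_isIntegral X x hxV (h1.trans (map_zero _).symm)
  have hη : genericPoint X ∈ f ⁻¹ᵁ V :=
    ((genericPoint_spec X).mem_open_set_iff (f ⁻¹ᵁ V).isOpen).mpr ⟨x, trivial, hxV⟩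
  have h3 : Y.basicOpen s = ⊥ := by
    by_contra hne
    have h4 : genericPoint Y ∈ Y.basicOpen s := by
      refine ((genericPoint_spec Y).mem_open_set_iff (Y.basicOpen s).isOpen).mpr ?_
      rw [Set.univ_inter]
      by_contra hcon
      rw [Set.not_nonempty_iff_eq_empty] at hcon
      exact hne (SetLike.coe_injective hcon)
    have h5 : genericPoint X ∈ f ⁻¹ᵁ (Y.basicOpen s) := by
      change f (genericPoint X) ∈ Y.basicOpen s
      rw [hf]; exact h4
    rw [Scheme.preimage_basicOpen, h2, Scheme.basicOpen_zero] at h5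
    exact h5
  have h6 : s = 0 := (basicOpen_eq_bot_iff s).mp h3
  rw [h6, map_zero]

/-- For a proper dominant morphism from an integral scheme to a normal Noetherian integral scheme of dimension two, all
but finitely many points of the target, all of them closed of codimension two, are images of points at which the
morphism is flat. -/
theorem exists_finite_flat {X Y : Scheme.{u}} [IsIntegral X] [IsIntegral Y] [IsNoetherian Y] (f : X ⟶ Y) [IsProper f]
    (hf : f (genericPoint X) = genericPoint Y) (hY : Pi1.IsNormalScheme Y)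
    (hdim : ∀ y : Y, ringKrullDim (Y.presheaf.stalk y) ≤ 2) :
    ∃ S : Set Y, S.Finite ∧ IsClosed S ∧ (∀ y ∈ S, IsClosed ({y} : Set Y) ∧ ringKrullDim (Y.presheaf.stalk y) = 2) ∧
      ∀ x : X, f x ∉ S → (f.stalkMap x).hom.Flat := by
  have hT : IsClosed {x : X | ¬ (f.stalkMap x).hom.Flat} := by
    have := Sga3C.QFlatOpen.isOpen_flatLocus f
    exact ⟨by convert this using 1; ext x; simp⟩
  have hS : IsClosed (f '' {x : X | ¬ (f.stalkMap x).hom.Flat}) := f.isClosedMap _ hT
  have h2 : ∀ y ∈ f '' {x : X | ¬ (f.stalkMap x).hom.Flat}, ringKrullDim (Y.presheaf.stalk y) = 2 := by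
    rintro _ ⟨x, hx, rfl⟩
    refine le_antisymm (hdim _) ?_
    by_contra hlt
    apply hx
    have h1 : ringKrullDim (Y.presheaf.stalk (f x)) ≤ 1 := by
      rw [ringKrullDim_stalk_eq_coheight] at hlt ⊢
      have h5 : ¬ (2 : ℕ∞) ≤ coheight (f x) := fun h => hlt (WithBot.coe_le_coe.mpr h)
      rw [not_le] at h5
      have h6 : coheight (f x) ≤ 1 := Order.le_of_lt_add_one (by rwa [one_add_one_eq_two])
      exact_mod_cast h6
    obtain ⟨hd, hic⟩ := hY (f x)
    let _ := (f.stalkMap x).hom.toAlgebra
    exact flat_of_dim_le_one _ _ h1 (stalkMap_injective f hf x)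
  have h3 : ∀ y ∈ f '' {x : X | ¬ (f.stalkMap x).hom.Flat}, IsClosed ({y} : Set Y) := fun y hy =>
    isClosed_of_two_le hdim y (h2 y hy).ge
  refine ⟨_, finite_of_isClosed_points hS h3, hS, fun y hy => ⟨h3 y hy, h2 y hy⟩, fun x hx => ?_⟩
  by_contra hc
  exact hx ⟨x, hc, rfl⟩

/-- A normal Noetherian surface with a proper dominant morphism from a regular scheme has finitely many singular points. -/
theorem finite_not_regular {X Y : Scheme.{u}} [IsIntegral X] [IsIntegral Y] [IsNoetherian Y] (f : X ⟶ Y) [IsProper f]
    (hf : f (genericPoint X) = genericPoint Y) (hY : Pi1.IsNormalScheme Y)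
    (hdim : ∀ y : Y, ringKrullDim (Y.presheaf.stalk y) ≤ 2)
    (hreg : ∀ x : X, IsRegularLocalRing (X.presheaf.stalk x)) :
    {y : Y | ¬ IsRegularLocalRing (Y.presheaf.stalk y)}.Finite := by
  obtain ⟨S, hS, -, -, h⟩ := exists_finite_flat f hf hY hdim
  refine hS.subset fun y hy => ?_
  by_contra hc
  apply hy
  have hsurj : Function.Surjective f := by
    have h1 : IsClosed (Set.range f) := f.isClosedMap.isClosed_range
    intro z
    have h2 : genericPoint Y ⤳ z := (genericPoint_spec Y).specializes trivial
    exact h2.mem_closed h1 ⟨_, hf⟩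
  obtain ⟨x, rfl⟩ := hsurj y
  have hfl := h x hc
  algebraize [(f.stalkMap x).hom]
  have : IsLocalHom (algebraMap (Y.presheaf.stalk (f x)) (X.presheaf.stalk x)) :=
    inferInstanceAs (IsLocalHom (f.stalkMap x).hom)
  have hx := hreg x
  exact S0565.result (Y.presheaf.stalk (f x)) (X.presheaf.stalk x)

end K372.FinSing
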