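import Groth.Agent.Resolve.K372.RegQP
import Groth.Agent.Resolve.K372.FinSing
import Groth.Agent.Ega2.RegLow
import Groth.Agent.Divis.StalkAssoc
import Groth.Agent.CurvesB.DimPts
import Groth.Agent.ResProp.K782.GenPt
import Groth.Agent.S7410
import Groth.Agent.S7320
import Groth.Agent.S1274

/-!
# Regular schemes of dimension at most two are quasi-projective

* `exists_isIso_nhd`: a blowing up is an isomorphism near a point where the ideal is generated by a nonzerodivisor.
* `exists_nhd_of_dim_le_one`: the same for an ideal which is trivial on a dense open, at regular points of dimension at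
  most one.
* `isQuasiProjective_of_regular`: a separated scheme of finite type over a Noetherian scheme, regular of dimension at most
  two, is quasi-projective.
-/

set_option autoImplicit false
universe u

open CategoryTheory CategoryTheory.Limits AlgebraicGeometry TopologicalSpace Opposite

namespace K372.RegSurf

open Groth.Agent Groth.Agent.Divis.CartierBasic Groth.Agent.Divis.EffCartier Groth.Agent.Divis.BlowUpFormal

variable {X X' S : Scheme.{u}}

theorem exists_isIso_nhd [IsLocallyNoetherian X] (I : X.IdealSheafData) (b : X' ⟶ X) (hb : BlowUp.IsBlowUp b I) (x : X)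
    (g : X.presheaf.stalk x) (hg : g ∈ nonZeroDivisors (X.presheaf.stalk x)) (h : stalkIdeal I x = Ideal.span {g}) :
    ∃ V : X.Opens, x ∈ V ∧ IsIso (b ∣_ V) := by
  obtain ⟨U, hxU, f, hf, hU⟩ := exists_generator_of_stalkIdeal I x g hg h
  refine ⟨U.1, hxU, isIso_of_isBlowUp_of_isEff (isBlowUp_morphismRestrict hb U.1) ?_⟩
  refine isEff_comap_of U.1.ι fun z => ?_
  have hT : IsAffineOpen (⊤ : U.1.toScheme.Opens) := by
    have : IsAffine U.1.toScheme := U.2
    exact isAffineOpen_top _
  have e : (⊤ : U.1.toScheme.Opens) ≤ U.1.ι ⁻¹ᵁ U.1 := by simp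
  exact ⟨U, ⟨⊤, hT⟩, z.2, trivial, e, f, hU, map_mem_nonZeroDivisors_of_flat _ (Scheme.Hom.flat_appLE U.1.ι U.2 hT e) hf⟩

theorem exists_nhd_of_dim_le_one [IsLocallyNoetherian X] (I : X.IdealSheafData) (b : X' ⟶ X)
    (hb : BlowUp.IsBlowUp b I) (U : X.Opens) (hU : Dense (U : Set X)) (hI : Disjoint (I.support : Set X) (U : Set X))
    (x : X) [IsRegularLocalRing (X.presheaf.stalk x)] (hx : ringKrullDim (X.presheaf.stalk x) ≤ 1) :
    ∃ V : X.Opens, x ∈ V ∧ IsIso (b ∣_ V) := by
  have hdom := Ega2.RegLow.isDomain (X.presheaf.stalk x) hx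
  have hpid := Ega2.RegLow.isPrincipalIdealRing (X.presheaf.stalk x) hx
  obtain ⟨g, hg⟩ := hpid.principal (stalkIdeal I x)
  refine exists_isIso_nhd I b hb x g ?_ hg
  rw [mem_nonZeroDivisors_iff_ne_zero]
  rintro rfl
  have hbot : stalkIdeal I x = ⊥ := by
    rw [hg]
    exact Ideal.span_singleton_eq_bot.2 rfl
  obtain ⟨ζ, hζU, hζ, -⟩ := K782.GenPt.exists_mem_of_dense U hU x
  have h1 : ζ ∉ I.support := fun h => Set.disjoint_left.1 hI h hζU
  rw [mem_support_iff_stalkIdeal_ne_top, not_not, ← Divis.StalkAssoc.stalkIdeal_map_stalkSpecializes I hζ, hbot,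
    Ideal.map_bot] at h1
  exact bot_ne_top h1

/-- Local properties of a morphism over a union of opens. -/
theorem of_iSup (q : X' ⟶ X) (Q : MorphismProperty Scheme.{u}) [IsZariskiLocalAtTarget Q] {J : Type*}
    (W : J → X.Opens) (h : ∀ i, Q (q ∣_ W i)) : Q (q ∣_ (⨆ i, W i)) := by
  rw [IsZariskiLocalAtTarget.iff_of_iSup_eq_top (P := Q) (fun i => (⨆ i, W i).ι ⁻¹ᵁ W i)]
  · intro i
    have e : (⨆ i, W i).ι ''ᵁ ((⨆ i, W i).ι ⁻¹ᵁ W i) = W i := by
      rw [Scheme.Hom.image_preimage_eq_opensRange_inf, Scheme.Opens.opensRange_ι]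
      exact inf_eq_right.mpr (le_iSup W i)
    rw [Q.arrow_mk_iso_iff (morphismRestrictRestrict q (⨆ i, W i) ((⨆ i, W i).ι ⁻¹ᵁ W i) ≪≫
      morphismRestrictEq q e)]
    exact h i
  · apply (⨆ i, W i).ι.image_injective
    dsimp
    rw [Scheme.Hom.image_iSup, Scheme.Hom.image_top_eq_opensRange, Scheme.Opens.opensRange_ι]
    simp [Scheme.Hom.image_preimage_eq_opensRange_inf, le_iSup W]

/-- The largest open over which a morphism is an isomorphism. -/
theorem exists_largest (b : X' ⟶ X) : ∃ O : X.Opens, IsIso (b ∣_ O) ∧ ∀ V : X.Opens, IsIso (b ∣_ V) → V ≤ O := by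
  let W : {V : X.Opens // IsIso (b ∣_ V)} → X.Opens := fun V => V.1
  refine ⟨⨆ i, W i, ?_, fun V hV => le_iSup W ⟨V, hV⟩⟩
  exact of_iSup b (MorphismProperty.isomorphisms Scheme.{u}) W fun i => i.2

/-- Regular schemes of dimension at most two, separated of finite type over a Noetherian scheme, are
quasi-projective. -/
theorem isQuasiProjective_of_regular [IsNoetherian S] (f : X ⟶ S) [IsSeparated f] [LocallyOfFiniteType f]
    [QuasiCompact f] (hreg : ∀ x : X, IsRegularLocalRing (X.presheaf.stalk x))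
    (hdim : ∀ x : X, ringKrullDim (X.presheaf.stalk x) ≤ 2) : RelProj.IsQuasiProjective f := by
  have hNX : IsNoetherian X := by
    have h1 : IsLocallyNoetherian X := LocallyOfFiniteType.isLocallyNoetherian f
    have h2 : CompactSpace X := QuasiCompact.compactSpace_of_compactSpace f
    exact {}
  have hirr : (irreducibleComponents (X : Type u)).Finite := NoetherianSpace.finite_irreducibleComponents
  obtain ⟨n, X₀, π, j, hj, hjπ, hπ, hsurj, U, hU, hiso⟩ := S7410.result f hirr
  obtain ⟨I, X₁, b, hb, hI, h, hh⟩ := S1274.result π U (NoetherianSpace.isCompact _)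
  obtain ⟨O, hO, hOmax⟩ := exists_largest b
  have hO1 : ∀ x : X, x ∉ O → ringKrullDim (X.presheaf.stalk x) = 2 := by
    intro x hx
    refine le_antisymm (hdim x) ?_
    by_contra hc
    obtain ⟨V, hxV, hV⟩ := exists_nhd_of_dim_le_one I b hb U hU hI.2 x (by
      have h := (hreg x).spanFinrank_maximalIdeal
      rw [← h] at hc ⊢
      have h1 : ¬ 2 ≤ (IsLocalRing.maximalIdeal (X.presheaf.stalk x)).spanFinrank := fun h2 => hc (by exact_mod_cast h2)
      have h2 : (IsLocalRing.maximalIdeal (X.presheaf.stalk x)).spanFinrank ≤ 1 := by omega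
      exact_mod_cast h2)
    exact hx (hOmax V hV hxV)
  have hOc : ∀ x : X, x ∉ O → IsClosed ({x} : Set X) := fun x hx =>
    FinSing.isClosed_of_two_le hdim x (hO1 x hx).ge
  have hTc : IsClosed ((O : Set X)ᶜ) := O.isOpen.isClosed_compl
  have hTf : ((O : Set X)ᶜ).Finite := FinSing.finite_of_isClosed_points hTc fun x hx => hOc x hx
  have hbp : IsProper b := (S4418.result b (S8910.result _ hI.1 b hb)).2
  obtain ⟨X₂, g, hg, hgiso, h', hh'⟩ := S7320.result X ((O : Set X)ᶜ) hTf hTc
    (fun x hx => ⟨hOc x hx, hreg x, hO1 x hx⟩) b (by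
      have e : (⟨((O : Set X)ᶜ)ᶜ, hTc.isOpen_compl⟩ : X.Opens) = O := by
        ext x
        simp
      rw [e]
      exact hO)
  have hgq := RegQP.of_isContractionSeq hg inferInstance
  refine RegQP.desc_isContractionSeq hg f ?_
  have e1 : g ≫ f = (h' ≫ h) ≫ j ≫ CohB1.ProjSpaceOver.toBase n S := by
    rw [hjπ, ← hh', ← hh]
    simp only [Category.assoc]
  rw [e1]
  have e2 : (h' ≫ h) ≫ π = g := by rw [Category.assoc, hh, hh']
  have h1 : LocallyOfFiniteType g := hgq.1
  have h2 : QuasiCompact g := hgq.2.1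
  have h3 : LocallyOfFiniteType (h' ≫ h) := by
    have : LocallyOfFiniteType ((h' ≫ h) ≫ π) := by rw [e2]; exact h1
    exact locallyOfFiniteType_of_comp (h' ≫ h) π
  have h4 : QuasiCompact (h' ≫ h) := by
    have : QuasiCompact ((h' ≫ h) ≫ π) := by rw [e2]; exact h2
    exact QuasiCompact.of_comp (h' ≫ h) π
  refine RegQP.comp (RegQP.of_comp (h' ≫ h) π (by rw [e2]; exact hgq)) ?_
  have h5 : QuasiCompact (j ≫ CohB1.ProjSpaceOver.toBase n S) := by rw [hjπ]; infer_instance
  exact K386.HQP.isQuasiProjective_of_isHQuasiProjective ⟨n, j, hj,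
    QuasiCompact.of_comp j (CohB1.ProjSpaceOver.toBase n S), rfl⟩

end K372.RegSurf
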