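import Groth.Agent.Models.RMBlow
import Groth.Agent.CurvesC.RegCompl
import Groth.Prelude.Def_BlowUp2
import Groth.Prelude.Def_FEt

/-!
# Admissible blow-ups descend from the completion

* `exists_eq_idealSheaf`: every ideal sheaf on `Spec A` is `Curv2.idealSheaf A I`.
* `isAdmissibleFor_puncturedSpec_iff`: admissibility for the punctured spectrum of a Noetherian local ring.
* `map_comap_of_pow_le`: ideals of the completion containing a power of the maximal ideal are extended.
* `exists_descend`: admissible blow-ups of `Spec Â` descend to `Spec A`.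
-/

set_option autoImplicit false
universe u

open CategoryTheory CategoryTheory.Limits AlgebraicGeometry IsLocalRing

namespace K372.AdmDesc

open Groth.Agent.Models.RMBlow

/-- Every ideal sheaf on `Spec A` comes from an ideal. -/
theorem exists_eq_idealSheaf {A : Type u} [CommRing A] (J : (Spec (CommRingCat.of A)).IdealSheafData) :
    ∃ I : Ideal A, J = Curv2.idealSheaf A I := by
  refine ⟨(J.ideal ⟨⊤, isAffineOpen_top _⟩).comap (Scheme.ΓSpecIso (CommRingCat.of A)).inv.hom, ?_⟩
  rw [Curv2.idealSheaf, Ideal.map_comap_of_surjective _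
    (ConcreteCategory.bijective_of_isIso (Scheme.ΓSpecIso (CommRingCat.of A)).inv).2]
  apply Scheme.IdealSheafData.ext_of_isAffine
  simp

/-- Admissibility with respect to the punctured spectrum. -/
theorem isAdmissibleFor_puncturedSpec_iff {A : Type u} [CommRing A] [IsLocalRing A] [IsNoetherianRing A]
    (I : Ideal A) : BlowUp.IsAdmissibleFor (FEt.puncturedSpec A) (Curv2.idealSheaf A I) ↔
      ∃ n, maximalIdeal A ^ n ≤ I := by
  have : IsLocallyNoetherian (Spec (CommRingCat.of A)) := inferInstance
  have h0 : BlowUp.IsAdmissibleFor (FEt.puncturedSpec A) (Curv2.idealSheaf A I) ↔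
      ∀ p : PrimeSpectrum A, I ≤ p.asIdeal → p = closedPoint A := by
    constructor
    · rintro ⟨-, h⟩ p hp
      by_contra hc
      exact Set.disjoint_left.mp h ((mem_support_idealSheaf I p).2 hp) hc
    · intro h
      refine ⟨isFiniteTypeIdeal _, Set.disjoint_left.mpr ?_⟩
      intro p hp hp'
      exact hp' (h p ((mem_support_idealSheaf I p).1 hp))
  rw [h0]
  constructor
  · intro h
    have hrad : maximalIdeal A ≤ I.radical := by
      rw [Ideal.radical_eq_sInf]
      refine le_sInf ?_
      rintro p ⟨hp1, hp2⟩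
      have := h ⟨p, hp2⟩ hp1
      have h2 : p = maximalIdeal A := congrArg PrimeSpectrum.asIdeal this
      rw [h2]
    exact Ideal.exists_pow_le_of_le_radical_of_fg hrad (IsNoetherian.noetherian _)
  · rintro ⟨n, hn⟩ p hp
    apply PrimeSpectrum.ext
    refine ((maximalIdeal.isMaximal A).eq_of_le p.isPrime.ne_top (fun r hr => ?_)).symm
    exact p.isPrime.mem_of_pow_mem n (hp (hn (Ideal.pow_mem_pow hr n)))

/-- Ideals containing a power of the maximal ideal are extended, for local maps `A → B` with `𝔪_A B = 𝔪_B` and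
trivial residue field extension. -/
theorem map_comap_of_pow_le {A B : Type*} [CommRing A] [IsLocalRing A] [CommRing B] [IsLocalRing B] [Algebra A B]
    (hm : (maximalIdeal A).map (algebraMap A B) = maximalIdeal B)
    (hs : ∀ b : B, ∃ a : A, b - algebraMap A B a ∈ maximalIdeal B) (J : Ideal B) (n : ℕ)
    (hn : maximalIdeal B ^ n ≤ J) :
    maximalIdeal A ^ n ≤ J.comap (algebraMap A B) ∧ (J.comap (algebraMap A B)).map (algebraMap A B) = J := by
  have hn' : maximalIdeal A ^ n ≤ J.comap (algebraMap A B) := by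
    rw [← Ideal.map_le_iff_le_comap, Ideal.map_pow, hm]
    exact hn
  refine ⟨hn', ?_⟩
  apply le_antisymm Ideal.map_comap_le
  intro z hz
  obtain ⟨a, ha⟩ := exists_sub_mem_pow (algebraMap A B) hm hs n z
  have h1 : a ∈ J.comap (algebraMap A B) := by
    have := J.sub_mem hz (hn ha)
    rwa [sub_sub_cancel] at this
  have h2 : maximalIdeal B ^ n ≤ (J.comap (algebraMap A B)).map (algebraMap A B) := by
    rw [← hm, ← Ideal.map_pow]
    exact Ideal.map_mono hn'
  have := add_mem (h2 ha) (Ideal.mem_map_of_mem (algebraMap A B) h1)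
  rwa [sub_add_cancel] at this

/-- The case of the completion. -/
theorem map_comap_cpl (A : Type u) [CommRing A] [IsLocalRing A] [IsNoetherianRing A] (J : Ideal (Curv2.cpl A)) (n : ℕ)
    (hn : maximalIdeal (Curv2.cpl A) ^ n ≤ J) :
    maximalIdeal A ^ n ≤ J.comap (algebraMap A (Curv2.cpl A)) ∧
      (J.comap (algebraMap A (Curv2.cpl A))).map (algebraMap A (Curv2.cpl A)) = J := by
  have hm : (maximalIdeal A).map (algebraMap A (Curv2.cpl A)) = maximalIdeal (Curv2.cpl A) :=
    AdicCompletion.maximalIdeal_eq_map.symm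
  refine map_comap_of_pow_le hm (fun b => ?_) J n hn
  obtain ⟨a, ha⟩ := Groth.Agent.CurvesC.RegCompl.exists_sub_mem_maximalIdeal A b
  exact ⟨a, hm ▸ ha⟩

/-- A blow-up of `Spec Â` in an ideal containing a power of the maximal ideal is the base change of a blow-up of
`Spec A` in an ideal containing a power of the maximal ideal. -/
theorem exists_descend (A : Type u) [CommRing A] [IsLocalRing A] [IsNoetherianRing A]
    {Y : Scheme.{u}} (c : Y ⟶ Spec (CommRingCat.of (Curv2.cpl A))) (J : Ideal (Curv2.cpl A)) (n : ℕ)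
    (hn : maximalIdeal (Curv2.cpl A) ^ n ≤ J) (hc : BlowUp.IsBlowUp c (Curv2.idealSheaf _ J)) :
    ∃ (I : Ideal A) (X : Scheme.{u}) (b : X ⟶ Spec (CommRingCat.of A)),
      maximalIdeal A ^ n ≤ I ∧ I.map (algebraMap A (Curv2.cpl A)) = J ∧ BlowUp.IsBlowUp b (Curv2.idealSheaf A I) ∧
      ∃ e : Y ≅ Curv2.bcCpl A b, e.hom ≫ Curv2.bcCplSnd A b = c := by
  obtain ⟨h1, h2⟩ := map_comap_cpl A J n hn
  obtain ⟨X, b, hb⟩ := Groth.Agent.Flat2C.BlowExist.exists_isBlowUp
    (Curv2.idealSheaf A (J.comap (algebraMap A (Curv2.cpl A))))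
  refine ⟨_, X, b, h1, h2, hb, ?_⟩
  let g := Spec.map (CommRingCat.ofHom (algebraMap A (Curv2.cpl A)))
  have hg : Flat g := by
    rw [Flat.SpecMap_iff]
    exact (RingHom.flat_algebraMap_iff).2 inferInstance
  have H : IsPullback (pullback.fst b g) (pullback.snd b g) b g := IsPullback.of_hasPullback b g
  have hb2 := Groth.Agent.Divis.BlowUpFormal.isBlowUp_of_isPullback hb H
  rw [comap_SpecMap, h2] at hb2
  obtain ⟨e, he⟩ := Groth.Agent.Divis.BlowUpFormal.exists_iso_of_isBlowUp hc hb2
  exact ⟨e, he⟩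

end K372.AdmDesc
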