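import Groth.Agent.Ega2.AmpleTransfer
import Groth.Agent.Ega2.RelAmpRows
import Groth.Agent.Ega2.WeightPull
import Groth.Agent.Sga2lef.H83.Frame
import Groth.Agent.Resolve.K373.PicDesc
import Groth.Agent.CurvesC.ModDim

/-!
# Descent of ampleness along a contraction

`b : X ⟶ Y` with `b_* O = O`, an isomorphism over the open `O ⊂ Y`; `M` on `X` has a section with nonvanishing locus
`b⁻¹(O)`; `L'` on `Y` with `b^* L' = L^d ⊗ M^n`, `L` ample on `b⁻¹(U)`.  Then `L'` is ample on `U` if it is ample on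
principal open neighbourhoods of the points of `U` outside `O`.
-/

set_option autoImplicit false
universe u

open CategoryTheory CategoryTheory.Limits AlgebraicGeometry TopologicalSpace Opposite

namespace K372.AmpDesc

open Groth.Agent Groth.Agent.Ega2.Nv Groth.Agent.Ega2.Ample Groth.Agent.Fdesc.LocGen
open Groth.Agent.Ega2.ExtCoeff

variable {X Y : Scheme.{u}}

theorem opens_ext {U A B : X.Opens} (hA : A ≤ U) (hB : B ≤ U)
    (h : ∀ x ∈ U, ∃ V : X.Opens, x ∈ V ∧ V ⊓ A = V ⊓ B) : A = B := by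
  ext x
  constructor
  · intro hx
    obtain ⟨V, hxV, hV⟩ := h x (hA hx)
    exact (hV.le ⟨hxV, hx⟩).2
  · intro hx
    obtain ⟨V, hxV, hV⟩ := h x (hB hx)
    exact (hV.ge ⟨hxV, hx⟩).2

theorem nv_tmul {M N : X.Modules} {U : X.Opens} (hM : LocGen M U) (hN : LocGen N U) (s : Γ(M, U)) (t : Γ(N, U)) :
    nv _ (tmul s t) = nv _ s ⊓ nv _ t := by
  refine opens_ext (nv_le _ _) (inf_le_left.trans (nv_le _ _)) fun x hx => ?_
  obtain ⟨V, e, hxV, hVU, he⟩ := hM x hx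
  obtain ⟨V', e', hxV', hVU', he'⟩ := hN x hx
  have he1 := he.res (inf_le_left : V ⊓ V' ≤ V)
  have he2 := he'.res (inf_le_right : V ⊓ V' ≤ V')
  have hle : V ⊓ V' ≤ U := inf_le_left.trans hVU
  obtain ⟨a, ha⟩ := he1.exists_eq (res M hle s)
  obtain ⟨c, hc⟩ := he2.exists_eq (res N hle t)
  refine ⟨V ⊓ V', ⟨hxV, hxV'⟩, ?_⟩
  rw [nv_inf_of_eq_smul (tmul s t) hle (he1.tmul he2) (a * c) (by
    rw [res_tmul, ha, hc, smul_tmul, tmul_smul, smul_smul]), Scheme.basicOpen_mul]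
  have h1 := nv_inf_of_eq_smul s hle he1 a ha
  have h2 := nv_inf_of_eq_smul t hle he2 c hc
  rw [← h1, ← h2]
  ext z
  simp only [Opens.coe_inf, Set.mem_inter_iff]
  tauto

theorem nv_le_nv_pow {M : X.Modules} {U : X.Opens} (s : Γ(M, U)) (n : ℕ) : nv _ s ≤ nv _ (pow s n) := by
  rw [le_nv_iff _ _ (nv_le _ _), res_pow]
  exact (isGen_nv _ s).pow n

theorem nv_pow {M : X.Modules} {U : X.Opens} (hM : LocGen M U) (s : Γ(M, U)) {n : ℕ} (hn : n ≠ 0) :
    nv _ (pow s n) = nv _ s := by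
  refine le_antisymm ?_ (nv_le_nv_pow s n)
  obtain ⟨n, rfl⟩ := Nat.exists_eq_succ_of_ne_zero hn
  have h1 : nv _ (pow s (n + 1)) = nv _ (pow s n) ⊓ nv _ s := nv_tmul (locGen_tensorPow hM n) hM (pow s n) s
  rw [h1]
  exact inf_le_right

theorem nv_app {M N : X.Modules} (φ : M ⟶ N) [IsIso φ] {U : X.Opens} (s : Γ(M, U)) :
    nv N (φ.app U s) = nv M s := by
  refine eq_of_forall_le_iff (fun V => ?_)
  constructor
  · intro hV
    have hVU := hV.trans (nv_le _ _)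
    rw [le_nv_iff _ _ hVU] at hV ⊢
    rw [← app_res] at hV
    have h1 := hV.app (inv φ)
    have h2 : (inv φ).app V (φ.app V (res M hVU s)) = res M hVU s :=
      congr(($(IsIso.hom_inv_id φ)).app V (res M hVU s))
    rwa [h2] at h1
  · intro hV
    have hVU := hV.trans (nv_le _ _)
    rw [le_nv_iff _ _ hVU] at hV ⊢
    rw [← app_res]
    exact hV.app φ

theorem nv_pullSec (f : X ⟶ Y) {M : Y.Modules} {U : Y.Opens} (hM : LocGen M U) (s : Γ(M, U)) :
    nv _ (pullSec f s) = f ⁻¹ᵁ (nv _ s) := by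
  refine opens_ext (U := f ⁻¹ᵁ U) (nv_le _ _) (f.preimage_mono (nv_le _ _)) fun x hx => ?_
  obtain ⟨V, e, hxV, hVU, he⟩ := hM (f x) hx
  obtain ⟨a, ha⟩ := he.exists_eq (res M hVU s)
  refine ⟨f ⁻¹ᵁ V, hxV, ?_⟩
  have h1 := nv_inf_of_eq_smul s hVU he a ha
  have h2 := nv_inf_of_eq_smul (pullSec f s) (f.preimage_mono hVU) (he.pullSec f) (f.app V a) (by
    rw [res_pullSec f hVU, ha, pullSec_smul])
  rw [h2, ← Scheme.preimage_basicOpen, ← h1]
  rfl

/-- An ample module has sections whose nonvanishing loci are affine neighbourhoods contained in a given open. -/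
theorem exists_nv_le {L : X.Modules} {U W : X.Opens} (h : AmpleOn L U) (hWU : W ≤ U) {x : X} (hx : x ∈ W) :
    ∃ (n : ℕ) (_ : 0 < n) (s : Γ(CohB1.tensorPow L n, U)), x ∈ nv _ s ∧ nv _ s ≤ W ∧ IsAffineOpen (nv _ s) := by
  obtain ⟨n, hn, s, hxs, haff⟩ := h.exists_nv x (hWU hx)
  obtain ⟨f, hf, hxf⟩ := haff.exists_basicOpen_le ⟨x, hx⟩ hxs
  obtain ⟨N₀, hN₀⟩ := exists_nv_eq_basicOpen h.locGen h.isCompact h.isQuasiSeparated s f
  obtain ⟨S, hS⟩ := hN₀ (N₀ + 1) (Nat.le_succ _)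
  exact ⟨n * (N₀ + 1), Nat.mul_pos hn (Nat.succ_pos _), S, by rwa [hS], by rw [hS]; exact hf, by
    rw [hS]; exact haff.basicOpen f⟩

/-- Descent of sections of invertible modules. -/
theorem exists_pullSec_eq {b : X ⟶ Y} (hb : ∀ V : Y.Opens, Function.Bijective (b.app V).hom) {M : Y.Modules}
    (hM : PicF.IsInvertible M) {U : Y.Opens} (t : Γ((Scheme.Modules.pullback b).obj M, b ⁻¹ᵁ U)) :
    ∃ s : Γ(M, U), pullSec b s = t := by
  have h1 := K373.PicDesc.isIso_unit hb hM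
  let η := (Scheme.Modules.pullbackPushforwardAdjunction b).unit.app M
  refine ⟨(inv η).app U t, ?_⟩
  change η.app U ((inv η).app U t) = t
  exact congr(($(IsIso.inv_hom_id η)).app U t)

open Groth.Agent.Ega2.Weight in
theorem ampleOn {b : X ⟶ Y} [Surjective b] (hb : ∀ V : Y.Opens, Function.Bijective (b.app V).hom) {O : Y.Opens}
    (hO : IsIso (b ∣_ O)) {L M : X.Modules} (hL : PicF.IsInvertible L) (hM : PicF.IsInvertible M) (c : Γ(M, ⊤))
    (hc : nv M c = b ⁻¹ᵁ O) {L' : Y.Modules} (hL' : PicF.IsInvertible L') {d n : ℕ} (hd : 0 < d)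
    (hw : Wt L M d n ((Scheme.Modules.pullback b).obj L')) {U : Y.Opens} (hU : AmpleOn L (b ⁻¹ᵁ U))
    (hUc : IsCompact (U : Set Y)) (hUq : IsQuasiSeparated (U : Set Y))
    (hloc : ∀ y ∈ U, y ∉ O → ∃ a : Γ(Y, U), y ∈ Y.basicOpen a ∧ AmpleOn L' (Y.basicOpen a)) : AmpleOn L' U := by
  have hLG : LocGen L' U := (locGen_top_iff.mpr hL').mono le_top
  refine ⟨hLG, hUc, fun y hy => ?_⟩
  by_cases hyO : y ∈ O
  · obtain ⟨x, rfl⟩ := b.surjective y
    obtain ⟨m, hm, s, hxs, hsO, haff⟩ := exists_nv_le hU (W := b ⁻¹ᵁ (U ⊓ O)) (b.preimage_mono inf_le_left) ⟨hy, hyO⟩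
    have hsO' : nv _ s ≤ b ⁻¹ᵁ O := hsO.trans (b.preimage_mono inf_le_right)
    let c' : Γ(M, b ⁻¹ᵁ U) := res M le_top c
    let t₀ := tmul (pow s d) (pow c' (n * m))
    have hw1 : Wt L M (d * m) (n * m) (CohB1.tensorMod (CohB1.tensorPow (CohB1.tensorPow L m) d)
        (CohB1.tensorPow M (n * m))) := by
      have h1 := ((Wt.tensorPow_fst (L := L) (L' := M) m).pow d).tensor (Wt.tensorPow_snd (L := L) (L' := M) (n * m))
      simpa [mul_comm] using h1
    have hw2 : Wt L M (d * m) (n * m) ((Scheme.Modules.pullback b).obj (CohB1.tensorPow L' m)) := by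
      have h1 := (Wt.tensorPow_fst (L := L') (L' := L') m).pullback b hL' hL'
      have h2 := h1.subst hw hw
      simpa using h2
    obtain ⟨θ⟩ := hw1.nonempty_iso hL hM hw2
    have hLm : PicF.IsInvertible (CohB1.tensorPow L' m) :=
      locGen_top_iff.mp (locGen_tensorPow (locGen_top_iff.mpr hL') m)
    obtain ⟨s', hs'⟩ := exists_pullSec_eq hb hLm (θ.hom.app _ t₀)
    have hlocL : LocGen (CohB1.tensorPow L m) (b ⁻¹ᵁ U) := locGen_tensorPow hU.locGen m
    have hlocM : LocGen M (b ⁻¹ᵁ U) := (locGen_top_iff.mpr hM).mono le_top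
    have hnv : b ⁻¹ᵁ (nv _ s') = nv _ s := by
      rw [← nv_pullSec b (locGen_tensorPow hLG m) s', hs', nv_app, nv_tmul (locGen_tensorPow hlocL d)
        (locGen_tensorPow hlocM _), nv_pow hlocL s hd.ne']
      refine inf_eq_left.2 (le_trans ?_ (nv_le_nv_pow c' (n * m)))
      rw [nv_res, hc]
      exact le_inf (nv_le _ _) hsO'
    have hle : nv _ s' ≤ O := by
      intro z hz
      obtain ⟨w, rfl⟩ := b.surjective z
      have : w ∈ b ⁻¹ᵁ (nv _ s') := hz
      rw [hnv] at this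
      exact hsO' this
    refine ⟨m, hm, s', ?_, ?_⟩
    · have : x ∈ b ⁻¹ᵁ (nv _ s') := by rw [hnv]; exact hxs
      exact this
    · have h1 : IsIso (b ∣_ (nv _ s')) := Groth.Agent.CurvesC.ModDim.isIso_morphismRestrict_of_le b hle
      have h2 : IsAffine (b ⁻¹ᵁ (nv _ s')).toScheme := by rw [hnv]; exact haff
      exact .of_isIso (inv (b ∣_ (nv _ s')))
  · obtain ⟨a, hya, ha⟩ := hloc y hy hyO
    obtain ⟨k, hk, s, hys, haff⟩ := ha.exists_nv y hya
    obtain ⟨S, hS⟩ := exists_nv_eq_nv (locGen_tensorPow hLG k) hUc hUq a s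
    exact ⟨k, hk, S, by rwa [hS], by rwa [hS]⟩

end K372.AmpDesc
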