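import Groth.Agent.Resolve.K372.ConTriv
import Groth.Agent.Models.H67.NormFam
import Groth.Agent.CurvesC.Modif
import Groth.Agent.Divis.StalkAssoc
import Groth.Agent.FlatA.SteinConn
import Groth.Agent.Sga3B.QCClosure

/-!
# The conormal sheaf of an effective Cartier divisor in the closed fibre is not trivial
-/

set_option autoImplicit false
universe u

open CategoryTheory CategoryTheory.Limits AlgebraicGeometry TopologicalSpace Opposite
open Groth.Agent Groth.Agent.Divis.CartierBasic Groth.Agent.Divis.StalkAssoc Groth.Agent.CycB.LocQuot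

namespace K372.ConNontriv

lemma ringKrullDim_add_one_le {X : Scheme.{u}} {x y : X} (h : x ⤳ y) (hne : x ≠ y) :
    ringKrullDim (X.presheaf.stalk x) + 1 ≤ ringKrullDim (X.presheaf.stalk y) := by
  rw [ringKrullDim_stalk_eq_coheight, ringKrullDim_stalk_eq_coheight]
  have h1 : Order.coheight x + 1 ≤ Order.coheight y :=
    Order.coheight_add_one_le ⟨h, fun h' => hne (h.antisymm h').eq⟩
  exact_mod_cast h1

section Ord

variable {X : Scheme.{u}} [IsIntegral X] [IsLocallyNoetherian X] {I : X.IdealSheafData}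

omit [IsLocallyNoetherian X] in
theorem exists_gen (hI : BlowUp.IsEffCartierIdeal I) (x : X) :
    ∃ t : X.presheaf.stalk x, t ≠ 0 ∧ stalkIdeal I x = Ideal.span {t} := by
  obtain ⟨U, hxU, t, ht, he⟩ := hI x
  have hne : Nonempty U.1 := ⟨⟨x, hxU⟩⟩
  refine ⟨X.presheaf.germ U.1 x hxU t, ?_, ?_⟩
  · intro h0
    have h1 : t = 0 := by
      apply germ_injective_of_isIntegral X x hxU
      rw [h0, map_zero]
    exact nonZeroDivisors.ne_zero ht h1
  · rw [stalkIdeal_eq I U hxU, he, Ideal.map_span, Set.image_singleton]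

omit [IsLocallyNoetherian X] in
theorem isUnit_of_genericPoint {z : X} (hz : z = genericPoint X) {τ : X.presheaf.stalk z} (h : τ ≠ 0) : IsUnit τ := by
  subst hz
  let : Field (X.presheaf.stalk (genericPoint X)) := inferInstanceAs (Field X.functionField)
  exact h.isUnit

/-- The codimension one points of the support. -/
def G (I : X.IdealSheafData) : Set X := {x | x ∈ I.support ∧ IsDiscreteValuationRing (X.presheaf.stalk x)}

theorem exists_mem_G (hN : ∀ x : X, IsIntegrallyClosed (X.presheaf.stalk x)) (hI : BlowUp.IsEffCartierIdeal I)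
    (hne : (I.support : Set X).Nonempty) : (G I).Nonempty := by
  obtain ⟨x, hx⟩ := hne
  obtain ⟨t, ht, he⟩ := exists_gen hI x
  by_contra hcon
  have h1 : t ∣ 1 := by
    refine Groth.Agent.Models.H67.NormFam.stalk_hartogs hN ht fun y hyx hy hnu => ?_
    exfalso
    apply hcon
    refine ⟨y, ?_, hy⟩
    rw [mem_support_iff_stalkIdeal_ne_top, ← stalkIdeal_map_stalkSpecializes I hyx, he, Ideal.map_span,
      Set.image_singleton, Ne, Ideal.span_singleton_eq_top]
    exact hnu
  have h2 := (mem_support_iff_stalkIdeal_ne_top I x).1 hx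
  rw [he, Ne, Ideal.span_singleton_eq_top] at h2
  exact h2 (isUnit_of_dvd_one h1)

omit [IsLocallyNoetherian X] in
theorem finite_G [IsNoetherian X] (hI : BlowUp.IsEffCartierIdeal I) : (G I).Finite := by
  obtain ⟨S, hSf, hSc, hSi, hS⟩ := TopologicalSpace.NoetherianSpace.exists_finite_set_isClosed_irreducible
    I.support.isClosed
  have hg : ∀ t ∈ S, ∃ ζ, IsGenericPoint ζ t := fun t ht => QuasiSober.sober (hSi t ht) (hSc t ht)
  choose! g hg using hg
  refine (hSf.image g).subset ?_
  rintro ξ ⟨hξ, hdvr⟩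
  have hξ' : ξ ∈ (I.support : Set X) := hξ
  rw [hS] at hξ'
  obtain ⟨t, ht, hξt⟩ := hξ'
  refine ⟨t, ht, ?_⟩
  by_contra hne
  have h1 := ringKrullDim_add_one_le ((hg t ht).specializes hξt) hne
  have h2 : ringKrullDim (X.presheaf.stalk ξ) = 1 :=
    IsPrincipalIdealRing.ringKrullDim_eq_one _ (IsDiscreteValuationRing.not_isField _)
  have hgI : g t ∈ I.support := by
    have : g t ∈ (I.support : Set X) := by
      rw [hS]
      exact ⟨t, ht, (hg t ht).mem⟩
    exact this
  have h3 : g t = genericPoint X := by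
    by_contra h3
    have h4 := ringKrullDim_add_one_le (genericPoint_specializes (g t)) (Ne.symm h3)
    have h5 : (1 : WithBot ℕ∞) ≤ ringKrullDim (X.presheaf.stalk (g t)) := by
      refine le_trans ?_ h4
      rw [ringKrullDim_stalk_eq_coheight]
      have h1 : (1 : ℕ∞) ≤ Order.coheight (genericPoint X) + 1 := le_add_self
      exact_mod_cast h1
    have h6 : (2 : WithBot ℕ∞) ≤ 1 := by
      calc (2 : WithBot ℕ∞) = 1 + 1 := by norm_num
        _ ≤ ringKrullDim (X.presheaf.stalk (g t)) + 1 := add_le_add_left h5 1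
        _ ≤ 1 := h1.trans h2.le
    exact absurd h6 (by decide)
  obtain ⟨τ, hτ, he⟩ := exists_gen hI (g t)
  rw [mem_support_iff_stalkIdeal_ne_top, he, Ne, Ideal.span_singleton_eq_top] at hgI
  exact hgI (isUnit_of_genericPoint h3 hτ)

/-- The first multiple of a function whose divisor is a multiple of that of `I` at one point of the support and at
least this multiple elsewhere. -/
theorem exists_pow [CompactSpace X] (hN : ∀ x : X, IsIntegrallyClosed (X.presheaf.stalk x))
    (hI : BlowUp.IsEffCartierIdeal I) (hne : (I.support : Set X).Nonempty) (h : Γ(X, ⊤)) (h0 : h ≠ 0)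
    (hh : ∀ x ∈ I.support, ¬ IsUnit (X.presheaf.germ ⊤ x trivial h)) :
    ∃ a b : ℕ, a ≠ 0 ∧ b ≠ 0 ∧ (∀ x : X, X.presheaf.germ ⊤ x trivial (h ^ b) ∈ (stalkIdeal I x) ^ a) ∧
      ∃ ξ ∈ I.support, Ideal.span {X.presheaf.germ ⊤ ξ trivial (h ^ b)} = (stalkIdeal I ξ) ^ a := by
  have hgen : ∀ x : X, ∃ t : X.presheaf.stalk x, t ≠ 0 ∧ stalkIdeal I x = Ideal.span {t} := exists_gen hI
  choose t ht he using hgen
  have hx0 : ∀ x : X, X.presheaf.germ ⊤ x trivial h ≠ 0 := fun x hx => by
    apply h0
    apply germ_injective_of_isIntegral X x (U := ⊤) trivial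
    rw [hx, map_zero]
  -- orders
  have hord : ∀ x ∈ G I, ∃ m n : ℕ, m ≠ 0 ∧ n ≠ 0 ∧ ∀ a b : ℕ,
      (t x ^ a ∣ X.presheaf.germ ⊤ x trivial (h ^ b) ↔ a * m ≤ b * n) ∧
      (X.presheaf.germ ⊤ x trivial (h ^ b) ∣ t x ^ a ↔ b * n ≤ a * m) := by
    rintro x ⟨hx, hdvr⟩
    have h1 : IsDiscreteValuationRing.addVal (X.presheaf.stalk x) (t x) ≠ ⊤ := by
      rw [Ne, IsDiscreteValuationRing.addVal_eq_top_iff]
      exact ht x
    have h2 : IsDiscreteValuationRing.addVal (X.presheaf.stalk x) (X.presheaf.germ ⊤ x trivial h) ≠ ⊤ := by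
      rw [Ne, IsDiscreteValuationRing.addVal_eq_top_iff]
      exact hx0 x
    obtain ⟨m, hm⟩ := ENat.ne_top_iff_exists.mp h1
    obtain ⟨n, hn⟩ := ENat.ne_top_iff_exists.mp h2
    refine ⟨m, n, ?_, ?_, fun a b => ⟨?_, ?_⟩⟩
    · rintro rfl
      have h3 := hm.symm
      rw [Nat.cast_zero, IsDiscreteValuationRing.addVal_eq_zero_iff] at h3
      rw [mem_support_iff_stalkIdeal_ne_top, he, Ne, Ideal.span_singleton_eq_top] at hx
      exact hx h3
    · rintro rfl
      have h3 := hn.symm
      rw [Nat.cast_zero, IsDiscreteValuationRing.addVal_eq_zero_iff] at h3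
      exact hh x hx h3
    · have e1 : X.presheaf.germ ⊤ x trivial (h ^ b) = (X.presheaf.germ ⊤ x trivial h) ^ b := map_pow _ _ _
      rw [e1, ← IsDiscreteValuationRing.addVal_le_iff_dvd, IsDiscreteValuationRing.addVal_pow,
        IsDiscreteValuationRing.addVal_pow, ← hm, ← hn, nsmul_eq_mul, nsmul_eq_mul]
      norm_cast
    · have e1 : X.presheaf.germ ⊤ x trivial (h ^ b) = (X.presheaf.germ ⊤ x trivial h) ^ b := map_pow _ _ _
      rw [e1, ← IsDiscreteValuationRing.addVal_le_iff_dvd, IsDiscreteValuationRing.addVal_pow,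
        IsDiscreteValuationRing.addVal_pow, ← hm, ← hn, nsmul_eq_mul, nsmul_eq_mul]
      norm_cast
  choose! m n hm hn hmn using hord
  have : IsNoetherian X := {}
  obtain ⟨ξ, hξ, hmax⟩ := (finite_G hI).toFinset.exists_max_image (fun x => (m x : ℚ) / n x)
    (by simpa using exists_mem_G hN hI hne)
  rw [Set.Finite.mem_toFinset] at hξ
  have hkey : ∀ x ∈ G I, n ξ * m x ≤ m ξ * n x := by
    intro x hx
    have h1 := hmax x (by simpa using hx)
    have h2 : (0 : ℚ) < n x := by exact_mod_cast Nat.pos_of_ne_zero (hn x hx)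
    have h3 : (0 : ℚ) < n ξ := by exact_mod_cast Nat.pos_of_ne_zero (hn ξ hξ)
    rw [div_le_div_iff₀ h2 h3] at h1
    have h4 : m x * n ξ ≤ m ξ * n x := by exact_mod_cast h1
    linarith [mul_comm (m x) (n ξ)]
  refine ⟨n ξ, m ξ, hn ξ hξ, hm ξ hξ, ?_, ξ, hξ.1, ?_⟩
  · intro x
    rw [he x, Ideal.span_singleton_pow, Ideal.mem_span_singleton]
    refine Groth.Agent.Models.H67.NormFam.stalk_hartogs hN (pow_ne_zero _ (ht x)) fun y hyx hy hnu => ?_
    have h1 : Ideal.span {(X.presheaf.stalkSpecializes hyx).hom (t x)} = Ideal.span {t y} := by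
      rw [← he y, ← stalkIdeal_map_stalkSpecializes I hyx, he x, Ideal.map_span, Set.image_singleton]
    have hyI : y ∈ I.support := by
      rw [mem_support_iff_stalkIdeal_ne_top, he y, ← h1, Ne, Ideal.span_singleton_eq_top]
      intro h2
      exact hnu (by rw [map_pow]; exact h2.pow _)
    have e1 : (X.presheaf.stalkSpecializes hyx).hom (X.presheaf.germ ⊤ x trivial (h ^ m ξ)) =
        X.presheaf.germ ⊤ y trivial (h ^ m ξ) :=
      Groth.Agent.Models.H67.NormFam.stalkSpecializes_germ (U := ⊤) hyx trivial (h ^ m ξ)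
    rw [e1, map_pow]
    have h2 := (hmn y ⟨hyI, hy⟩ (n ξ) (m ξ)).1.2 (hkey y ⟨hyI, hy⟩)
    have h3 : Ideal.span {(X.presheaf.stalkSpecializes hyx).hom (t x) ^ n ξ} = Ideal.span {t y ^ n ξ} := by
      rw [← Ideal.span_singleton_pow, ← Ideal.span_singleton_pow, h1]
    rw [← Ideal.mem_span_singleton, h3, Ideal.mem_span_singleton]
    exact h2
  · rw [he ξ, Ideal.span_singleton_pow]
    apply le_antisymm
    · rw [Ideal.span_singleton_le_span_singleton]
      exact (hmn ξ hξ (n ξ) (m ξ)).1.2 (hkey ξ hξ)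
    · rw [Ideal.span_singleton_le_span_singleton]
      exact (hmn ξ hξ (n ξ) (m ξ)).2.2 (le_of_eq (mul_comm _ _))

omit [IsLocallyNoetherian X] in
/-- Where a section of `I ^ a` generates `I ^ a` is open. -/
theorem isOpen_gen (hI : BlowUp.IsEffCartierIdeal I) (s : Γ(X, ⊤)) (a : ℕ)
    (hs : ∀ x : X, X.presheaf.germ ⊤ x trivial s ∈ (stalkIdeal I x) ^ a) :
    IsOpen {x : X | Ideal.span {X.presheaf.germ ⊤ x trivial s} = (stalkIdeal I x) ^ a} := by
  rw [isOpen_iff_forall_mem_open]
  intro x hx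
  obtain ⟨U, hxU, t, ht, he⟩ := hI x
  have hst : ∀ (y : X) (hy : y ∈ U.1), (stalkIdeal I y) ^ a = Ideal.span {X.presheaf.germ U.1 y hy t ^ a} := by
    intro y hy
    rw [stalkIdeal_eq I U hy, he, Ideal.map_span, Set.image_singleton, Ideal.span_singleton_pow]
  have hg : ∀ (y : X) (hy : y ∈ U.1), X.presheaf.germ ⊤ y trivial s =
      X.presheaf.germ U.1 y hy (X.presheaf.map (homOfLE (le_top : U.1 ≤ ⊤)).op s) := fun y hy =>
    (TopCat.Presheaf.germ_res_apply X.presheaf (homOfLE (le_top : U.1 ≤ ⊤)) y hy s).symm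
  have hle : Ideal.span {X.presheaf.map (homOfLE (le_top : U.1 ≤ ⊤)).op s} ≤ Ideal.span {t ^ a} := by
    rw [U.2.ideal_le_iff]
    intro y hy
    rw [Ideal.map_span, Ideal.map_span, Set.image_singleton, Set.image_singleton, Ideal.span_singleton_le_iff_mem]
    have h1 := hs y
    rw [hst y hy, hg y hy] at h1
    rw [map_pow]
    exact h1
  rw [Ideal.span_singleton_le_span_singleton] at hle
  obtain ⟨c, hc⟩ := hle
  have hmem : ∀ (y : X) (hy : y ∈ U.1), (Ideal.span {X.presheaf.germ ⊤ y trivial s} = (stalkIdeal I y) ^ a ↔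
      y ∈ X.basicOpen c) := by
    intro y hy
    rw [Scheme.mem_basicOpen X c y hy, hst y hy, hg y hy, hc, map_mul, map_pow]
    have hne : X.presheaf.germ U.1 y hy t ^ a ≠ 0 := by
      refine pow_ne_zero _ fun h0 => ?_
      have : Nonempty U.1 := ⟨⟨y, hy⟩⟩
      have h1 : t = 0 := by
        apply germ_injective_of_isIntegral X y hy
        rw [h0, map_zero]
      exact nonZeroDivisors.ne_zero ht h1
    constructor
    · intro h
      have h1 := h.ge (Ideal.mem_span_singleton_self _)
      rw [Ideal.mem_span_singleton] at h1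
      obtain ⟨d, hd⟩ := h1
      rw [mul_assoc] at hd
      exact IsUnit.of_mul_eq_one d (mul_left_cancel₀ hne (by rw [← hd, mul_one]))
    · intro h
      exact Ideal.span_singleton_mul_right_unit h _
  exact ⟨X.basicOpen c, fun y hy => (hmem y (X.basicOpen_le c hy)).2 hy, (X.basicOpen c).isOpen, (hmem x hxU).1 hx⟩

end Ord

section Proper

open Groth.Agent.CurvesC.ModDim Groth.Agent.CurvesC.Modif

/-- Over a local base, the non-vanishing of a global function of a proper scheme with set-theoretic image the closed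
point is stable under specialization. -/
theorem specializes_mem_basicOpen {A : Type u} [CommRing A] [IsLocalRing A] {Z : Scheme.{u}}
    (g : Z ⟶ Spec (CommRingCat.of A)) [IsProper g] (hg : ∀ z, g z = IsLocalRing.closedPoint A) (γ : Γ(Z, ⊤))
    {z z' : Z} (h : z ⤳ z') (hz : z ∈ Z.basicOpen γ) : z' ∈ Z.basicOpen γ := by
  have hint : (toSec g ⊤).IsIntegral := by
    have h1 : (g.appTop.hom).IsIntegral := isIntegral_appTop_of_universallyClosed g
    have h2 : ((Scheme.ΓSpecIso (CommRingCat.of A)).inv.hom).IsIntegral :=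
      RingHom.isIntegral_of_surjective _ (ConcreteCategory.bijective_of_isIso _).2
    have h3 : (g.appTop.hom.comp (Scheme.ΓSpecIso (CommRingCat.of A)).inv.hom).IsIntegral := h2.trans _ _ h1
    have h4 : toSec g ⊤ = g.appTop.hom.comp (Scheme.ΓSpecIso (CommRingCat.of A)).inv.hom := by
      ext t
      unfold toSec rs
      simp
    rw [h4]
    exact h3
  have hle : pr (V := (⊤ : Z.Opens)) z trivial ≤ pr (V := (⊤ : Z.Opens)) z' trivial := pr_le _ _ h
  have hmax : (pr (V := (⊤ : Z.Opens)) z trivial).IsMaximal := by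
    refine Ideal.isMaximal_of_isIntegral_of_isMaximal_comap' _ hint _ ?_
    rw [comap_pr g (V := ⊤) z trivial, hg z]
    exact IsLocalRing.maximalIdeal.isMaximal A
  have heq := hmax.eq_of_le (Ideal.IsPrime.ne_top inferInstance) hle
  by_contra hcon
  have h1 : γ ∈ pr (V := (⊤ : Z.Opens)) z' trivial := mem_pr.2 hcon
  rw [← heq, mem_pr] at h1
  exact h1 hz

/-- The closed fibre of a modification of an integrally closed local domain is connected. -/
theorem isConnected_fiber {A : Type u} [CommRing A] [IsDomain A] [IsLocalRing A] [IsIntegrallyClosed A]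
    {X : Scheme.{u}} {f : X ⟶ Spec (CommRingCat.of A)} (hf : IsModif f) (y : Spec (CommRingCat.of A)) :
    _root_.IsConnected (f ⁻¹' {y}) := by
  have := hf.proper
  have hiso : IsIso f.appTop := by
    rw [ConcreteCategory.isIso_iff_bijective]
    have h1 := hf.bijective_toSec_top
    have h4 : toSec f ⊤ = f.appTop.hom.comp (Scheme.ΓSpecIso (CommRingCat.of A)).inv.hom := by
      ext t
      unfold toSec rs
      simp
    have h2 : Function.Bijective (Scheme.ΓSpecIso (CommRingCat.of A)).inv.hom := ConcreteCategory.bijective_of_isIso _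
    rw [h4, RingHom.coe_comp] at h1
    exact (Function.Bijective.of_comp_iff _ h2).1 h1
  have h3 : ConnectedSpace (f.fiber y) :=
    Groth.Agent.FlatA.SteinConn.connectedSpace_pullback f
      (K := (Spec (CommRingCat.of A)).residueField y) ((Spec (CommRingCat.of A)).fromSpecResidueField y)
  have h4 : ConnectedSpace (f ⁻¹' {y}) := (f.fiberHomeo y).surjective.connectedSpace (f.fiberHomeo y).continuous
  exact isConnected_iff_connectedSpace.mpr h4

theorem main (A : Type u) [CommRing A] [IsDomain A] [IsLocalRing A] [IsNoetherianRing A]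
    [IsIntegrallyClosed A] (hdim : ringKrullDim A = 2)
    (X : Scheme.{u}) (f : X ⟶ Spec (CommRingCat.of A)) (hf : IsModif f) (hXn : Pi1.IsNormalScheme X)
    (I : X.IdealSheafData) (hI : BlowUp.IsEffCartierIdeal I) (hne : (I.support : Set X).Nonempty)
    (hZ : (I.support : Set X) ⊆ f.base ⁻¹' {IsLocalRing.closedPoint A})
    (ψ : (Scheme.Modules.pullback I.subschemeι).obj (kernel (ClSub.unitToPush I.subschemeι)) ≅
      Coh.structureModule I.subscheme) : False := by
  have := hf.proper
  have := hf.integral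
  have : IsLocallyNoetherian X := LocallyOfFiniteType.isLocallyNoetherian f
  have : CompactSpace X := QuasiCompact.compactSpace_of_compactSpace f
  have : IsNoetherian X := {}
  have hinj := hf.bijective_toSec_top.1
  have hnf : IsLocalRing.maximalIdeal A ≠ ⊥ := by
    intro h
    have h1 := ringKrullDim_eq_zero_of_isField (IsLocalRing.isField_iff_maximalIdeal_eq.mpr h)
    rw [hdim] at h1
    exact absurd h1 (by decide)
  obtain ⟨h, hh, h0⟩ := Submodule.exists_mem_ne_zero_of_ne_bot hnf
  have hu : ∀ x : X, h ∈ (f x).asIdeal ↔ ¬ IsUnit (X.presheaf.germ ⊤ x trivial (toSec f ⊤ h)) := by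
    intro x
    rw [← comap_pr f (V := ⊤) x trivial, Ideal.mem_comap, mem_pr, Scheme.mem_basicOpen X (U := ⊤) _ x trivial]
  have hfI : ∀ x ∈ I.support, f x = IsLocalRing.closedPoint A := fun x hx => hZ hx
  obtain ⟨a, b, ha, hb, hs, ξ, hξ, hξT⟩ := exists_pow (fun x => (hXn x).2) hI hne (toSec f ⊤ h)
    (fun h1 => h0 (hinj (by rw [h1, map_zero]))) (fun x hx => by
      rw [← hu, hfI x hx]
      exact hh)
  have hK : ∀ z, Krr.H492.StalkCon.Ix I.subschemeι z ≠ ⊥ := by
    intro z
    have h1 : Krr.H492.StalkCon.Ix I.subschemeι z = stalkIdeal I (I.subschemeι z) :=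
      Divis.CartierStalk.ker_stalkMap_subschemeι I z
    obtain ⟨t, ht, he⟩ := exists_gen hI (I.subschemeι z)
    rw [h1, he, Ne, Ideal.span_singleton_eq_bot]
    exact ht
  obtain ⟨γ, hγ⟩ := ConTriv.exists_section ψ hK (toSec f ⊤ h ^ b) a (fun z => by
    have h1 : Krr.H492.StalkCon.Ix I.subschemeι z = stalkIdeal I (I.subschemeι z) :=
      Divis.CartierStalk.ker_stalkMap_subschemeι I z
    rw [h1]
    exact hs _)
  set T : Set X := {x | Ideal.span {X.presheaf.germ ⊤ x trivial (toSec f ⊤ h ^ b)} = (stalkIdeal I x) ^ a} with hT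
  have hTo : IsOpen T := isOpen_gen hI _ a hs
  -- the nonvanishing locus of `γ`
  have hTγ : ∀ z : I.subscheme, I.subschemeι z ∈ T ↔ z ∈ I.subscheme.basicOpen γ := by
    intro z
    obtain ⟨τ, hτ⟩ := ConTriv.exists_good ψ z
    have h1 : stalkIdeal I (I.subschemeι z) = Ideal.span {τ} :=
      (Divis.CartierStalk.ker_stalkMap_subschemeι I z).symm.trans hτ.span_eq
    have hτ0 : τ ≠ 0 := by
      intro h2
      obtain ⟨t, ht, he⟩ := exists_gen hI (I.subschemeι z)
      rw [he, h2, Ideal.span_singleton_eq_span_singleton] at h1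
      exact ht (associated_zero_iff_eq_zero _ |>.1 h1)
    have h2 := hs (I.subschemeι z)
    rw [h1, Ideal.span_singleton_pow, Ideal.mem_span_singleton'] at h2
    obtain ⟨c, hc⟩ := h2
    have h3 := hγ z τ c hτ hc.symm
    rw [Scheme.mem_basicOpen I.subscheme (U := ⊤) γ z trivial, h3]
    have h4 : IsUnit (I.subschemeι.stalkMap z c) ↔ IsUnit c := isUnit_map_iff (I.subschemeι.stalkMap z).hom c
    rw [h4]
    change Ideal.span {_} = _ ↔ _
    rw [h1, ← hc, Ideal.span_singleton_pow]
    constructor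
    · intro h5
      have h6 := h5.ge (Ideal.mem_span_singleton_self _)
      rw [Ideal.mem_span_singleton] at h6
      obtain ⟨d, hd⟩ := h6
      refine IsUnit.of_mul_eq_one d (mul_left_cancel₀ (pow_ne_zero a hτ0) ?_)
      rw [mul_one]
      conv_rhs => rw [hd]
      ring
    · intro h5
      exact Ideal.span_singleton_mul_left_unit h5 _
  -- `T` meets the closed fibre exactly in the points of `Z` where `γ` does not vanish
  have hTZ : ∀ x ∈ T, f x = IsLocalRing.closedPoint A → x ∈ I.support := by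
    intro x hx hfx
    rw [mem_support_iff_stalkIdeal_ne_top]
    intro h1
    have h2 : Ideal.span {X.presheaf.germ ⊤ x trivial (toSec f ⊤ h ^ b)} = (stalkIdeal I x) ^ a := hx
    rw [h1, Ideal.top_pow, Ideal.span_singleton_eq_top] at h2
    have h3 : X.presheaf.germ ⊤ x trivial (toSec f ⊤ h ^ b) = (X.presheaf.germ ⊤ x trivial (toSec f ⊤ h)) ^ b :=
      map_pow _ _ _
    rw [h3, isUnit_pow_iff hb] at h2
    exact (hu x).1 (by rw [hfx]; exact hh) h2
  have hWc : IsClosed (T ∩ f ⁻¹' {IsLocalRing.closedPoint A}) := by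
    rw [← closure_eq_iff_isClosed]
    refine Set.Subset.antisymm ?_ subset_closure
    intro x hx
    have hEc : IsClosed (f ⁻¹' {IsLocalRing.closedPoint A}) :=
      (IsLocalRing.isClosed_singleton_closedPoint A).preimage f.continuous
    have hxE : x ∈ f ⁻¹' {IsLocalRing.closedPoint A} :=
      hEc.closure_subset_iff.2 Set.inter_subset_right hx
    have hxZ : x ∈ I.support := by
      refine I.support.isClosed.closure_subset_iff.2 ?_ hx
      exact fun y hy => hTZ y hy.1 hy.2
    refine ⟨?_, hxE⟩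
    have hrange : Set.range ((I.subscheme.basicOpen γ).ι ≫ I.subschemeι) = T ∩ f ⁻¹' {IsLocalRing.closedPoint A} := by
      ext y
      constructor
      · rintro ⟨⟨z, hz⟩, rfl⟩
        exact ⟨(hTγ z).2 hz, hZ (Divis.CartierStalk.subschemeι_mem_support I z)⟩
      · rintro ⟨hy, hy'⟩
        obtain ⟨z, rfl⟩ := Divis.CartierStalk.exists_subscheme_apply_eq I (hTZ y hy hy')
        exact ⟨⟨z, (hTγ z).1 hy⟩, rfl⟩
    rw [← hrange] at hx
    have : IsLocallyNoetherian I.subscheme := LocallyOfFiniteType.isLocallyNoetherian I.subschemeι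
    have : CompactSpace I.subscheme := QuasiCompact.compactSpace_of_compactSpace I.subschemeι
    have : IsNoetherian I.subscheme := {}
    obtain ⟨w, hw⟩ := Sga3B.QCClosure.exists_specializes_of_mem_closure_range _ x hx
    obtain ⟨z, rfl⟩ := Divis.CartierStalk.exists_subscheme_apply_eq I hxZ
    have hwz : w.1 ⤳ z := I.subschemeι.isEmbedding.isInducing.specializes_iff.1 hw
    rw [hTγ]
    refine specializes_mem_basicOpen (I.subschemeι ≫ f) ?_ γ hwz w.2
    intro z
    exact hZ (Divis.CartierStalk.subschemeι_mem_support I z)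
  have hE := isConnected_fiber hf (IsLocalRing.closedPoint A)
  have hET : f ⁻¹' {IsLocalRing.closedPoint A} ⊆ T := by
    intro x hx
    by_contra hxT
    obtain ⟨y, hyE, hyT, hyW⟩ := hE.isPreconnected T (T ∩ f ⁻¹' {IsLocalRing.closedPoint A})ᶜ hTo hWc.isOpen_compl
      (fun y hy => by
        by_cases hyT : y ∈ T
        · exact Or.inl hyT
        · exact Or.inr fun h => hyT h.1)
      ⟨ξ, hfI ξ hξ, hξT⟩ ⟨x, hx, fun h => hxT h.1⟩
    exact hyW ⟨hyT, hyE⟩
  have hTtop : ∀ x, x ∈ T := by
    intro x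
    by_contra hxT
    have h1 : IsClosed (f '' Tᶜ) := f.isClosedMap _ hTo.isClosed_compl
    have h2 : IsLocalRing.closedPoint A ∈ f '' Tᶜ :=
      ((IsLocalRing.specializes_closedPoint (f x)).mem_closed h1) ⟨x, hxT, rfl⟩
    obtain ⟨y, hy, hyc⟩ := h2
    exact hy (hET hyc)
  -- a point over a prime of height one containing `h`
  have hsp : Ideal.span {h} ≤ IsLocalRing.maximalIdeal A := by
    rwa [Ideal.span_singleton_le_iff_mem]
  obtain ⟨P, hP, hPle⟩ := Ideal.exists_minimalPrimes_le hsp
  have hPp : P.IsPrime := hP.1.1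
  have hPh : P.height ≤ 1 := Ideal.height_le_one_of_isPrincipal_of_mem_minimalPrimes (Ideal.span {h}) P hP
  have hPm : P ≠ IsLocalRing.maximalIdeal A := by
    rintro rfl
    have h1 := IsLocalRing.maximalIdeal_height_eq_ringKrullDim (R := A)
    rw [hdim] at h1
    have h2 : (2 : WithBot ℕ∞) ≤ 1 := by
      rw [← h1]
      exact_mod_cast hPh
    exact absurd h2 (by decide)
  have hsurj := hf.surjective
  obtain ⟨x, hx⟩ := f.surjective (⟨P, hPp⟩ : PrimeSpectrum A)
  have hxI : x ∉ I.support := by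
    intro h1
    have h2 := hfI x h1
    rw [hx] at h2
    exact hPm (congrArg PrimeSpectrum.asIdeal h2)
  rw [mem_support_iff_stalkIdeal_ne_top, not_not] at hxI
  have h2 : Ideal.span {X.presheaf.germ ⊤ x trivial (toSec f ⊤ h ^ b)} = (stalkIdeal I x) ^ a := hTtop x
  rw [hxI, Ideal.top_pow, Ideal.span_singleton_eq_top] at h2
  have h3 : X.presheaf.germ ⊤ x trivial (toSec f ⊤ h ^ b) = (X.presheaf.germ ⊤ x trivial (toSec f ⊤ h)) ^ b :=
    map_pow _ _ _
  rw [h3, isUnit_pow_iff hb] at h2
  refine (hu x).1 ?_ h2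
  rw [hx]
  exact hP.1.2 (Ideal.mem_span_singleton_self h)

end Proper

end K372.ConNontriv
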