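import Groth.Agent.Krr.H492.StalkCon
import Groth.Agent.Divis.CartierStalk

/-!
# Trivial conormal sheaves

Let `i : Z ⟶ X` be a closed immersion with kernel `K` and `ψ : i^* K ≅ O_Z`.  `Good ψ z τ` says that `τ ∈ O_{X, i z}`
is a generator of the ideal of `Z` whose class in `K/K²` is the one given by `ψ`.

* `exists_section`: if `s` is a section of `O_X` with `s_{i z} = c τ^a` for good `τ`, then the classes of the `c` modulo
  the ideal of `Z` glue to a global section of `O_Z`.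
-/

set_option autoImplicit false
universe u

open CategoryTheory CategoryTheory.Limits AlgebraicGeometry TopologicalSpace Opposite
open Groth.Agent
open Groth.Agent.Smoothlim.ModKer Groth.Agent.CycB.StalkExact Groth.Agent.CycB.PushStalk
open Groth.Agent.Fdesc.PullbackStalk Groth.Agent.Fdesc.FlatBC Groth.Agent.Grpsch.ConormalStalk
open Groth.Agent.Krr.H492.StalkCon

namespace K372.ConTriv

variable {Z X : Scheme.{u}} {i : Z ⟶ X} [IsClosedImmersion i]
  (ψ : (Scheme.Modules.pullback i).obj (kernel (ClSub.unitToPush i)) ≅ Coh.structureModule Z)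

/-- The generator of the stalk of the conormal sheaf given by the trivialization. -/
noncomputable def gen (z : Z) : ((Scheme.Modules.pullback i).obj (kernel (ClSub.unitToPush i))).presheaf.stalk z :=
  stalkLin ψ.inv z (unitStalk Z z 1)

/-- The global section given by the trivialization. -/
noncomputable def glob : Γ((Scheme.Modules.pullback i).obj (kernel (ClSub.unitToPush i)), ⊤) :=
  ψ.inv.app ⊤ (1 : Γ(Z, ⊤))

theorem germ_glob (z : Z) : ((Scheme.Modules.pullback i).obj (kernel (ClSub.unitToPush i))).presheaf.germ ⊤ z trivial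
    (glob ψ) = gen ψ z := by
  have h1 := stalkLin_germ ψ.inv (U := ⊤) z trivial (1 : Γ(Z, ⊤))
  refine h1.symm.trans ?_
  refine congrArg (stalkLin ψ.inv z) ?_
  have h2 := unitStalkLin_germ z (⊤ : Z.Opens) trivial (1 : Γ(Z, ⊤))
  refine h2.symm.trans ?_
  exact congrArg (unitStalk Z z) (map_one (Z.presheaf.germ ⊤ z trivial).hom)

theorem exists_smul_gen (z : Z) (n : ((Scheme.Modules.pullback i).obj (kernel (ClSub.unitToPush i))).presheaf.stalk z) :
    ∃ c : Z.presheaf.stalk z, n = c • gen ψ z := by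
  refine ⟨(unitStalk Z z).symm (stalkLin ψ.hom z n), ?_⟩
  rw [gen, ← map_smul, ← map_smul, smul_eq_mul, mul_one, LinearEquiv.apply_symm_apply]
  rw [← LinearMap.comp_apply, ← stalkLin_comp, Iso.hom_inv_id, stalkLin_id]
  rfl

/-- `τ` is a generator of the ideal of `Z` at `i z` with the class prescribed by `ψ`. -/
def Good (z : Z) (τ : X.presheaf.stalk (i z)) : Prop :=
  ∃ g, canAdd i (kernel (ClSub.unitToPush i)) z g = gen ψ z ∧ kap i (i z) g = τ

theorem exists_good (z : Z) : ∃ τ, Good ψ z τ := by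
  obtain ⟨g, hg⟩ := canAdd_surjective i (kernel (ClSub.unitToPush i)) z (gen ψ z)
  exact ⟨_, g, hg, rfl⟩

variable {ψ} in
theorem Good.mem {z : Z} {τ : X.presheaf.stalk (i z)} (h : Good ψ z τ) : τ ∈ Ix i z := by
  obtain ⟨g, -, rfl⟩ := h
  exact kap_mem i z g

variable {ψ} in
theorem Good.sub_mem {z : Z} {τ τ' : X.presheaf.stalk (i z)} (h : Good ψ z τ) (h' : Good ψ z τ') :
    τ - τ' ∈ (Ix i z) ^ 2 := by
  obtain ⟨g, hg, rfl⟩ := h
  obtain ⟨g', hg', rfl⟩ := h'
  rw [← map_sub, ← canAdd_eq_zero_iff, map_sub, hg, hg', sub_self]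

variable {ψ} in
/-- A good element generates the ideal. -/
theorem Good.span_eq [IsLocallyNoetherian X] {z : Z} {τ : X.presheaf.stalk (i z)} (h : Good ψ z τ) :
    Ix i z = Ideal.span {τ} := by
  apply le_antisymm
  · have hfg : (Ix i z).FG := IsNoetherian.noetherian _
    have hle : Ix i z ≤ IsLocalRing.maximalIdeal (X.presheaf.stalk (i z)) :=
      IsLocalRing.le_maximalIdeal (RingHom.ker_ne_top _)
    refine Submodule.le_of_le_smul_of_le_jacobson_bot (I := IsLocalRing.maximalIdeal (X.presheaf.stalk (i z))) hfg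
      (IsLocalRing.maximalIdeal_le_jacobson _) ?_
    intro σ hσ
    obtain ⟨g, rfl⟩ := exists_kap_eq i z σ hσ
    obtain ⟨g₀, hg₀, rfl⟩ := h
    obtain ⟨c, hc⟩ := exists_smul_gen ψ z (canAdd i _ z g)
    obtain ⟨a, rfl⟩ := i.stalkMap_surjective z c
    have h1 : canAdd i _ z (g - a • g₀) = 0 := by
      rw [map_sub, canAdd_smul, hg₀, hc, sub_self]
    rw [canAdd_eq_zero_iff, map_sub, map_smul] at h1
    have h2 : kap i (i z) g = a • kap i (i z) g₀ + (kap i (i z) g - a • kap i (i z) g₀) := by ring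
    rw [h2]
    refine Submodule.add_mem_sup ?_ ?_
    · exact Ideal.mul_mem_left _ _ (Ideal.mem_span_singleton_self _)
    · rw [pow_two] at h1
      exact Submodule.smul_mono_left hle h1
  · rw [Ideal.span_singleton_le_iff_mem]
    exact h.mem

omit [IsClosedImmersion i] in
theorem kap_germ (V : X.Opens) (x : X) (hx : x ∈ V) (y : Γ(kernel (ClSub.unitToPush i), V)) :
    kap i x ((kernel (ClSub.unitToPush i)).presheaf.germ V x hx y) =
      X.presheaf.germ V x hx ((kernel.ι (ClSub.unitToPush i)).app V y : Γ(X, V)) := by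
  apply (unitStalk X x).injective
  rw [unitStalk_kap, stalkLin_germ]
  exact (unitStalkLin_germ x V hx ((kernel.ι (ClSub.unitToPush i)).app V y : Γ(X, V))).symm

variable {ψ} in
/-- Good elements spread out. -/
theorem Good.exists_open {z₀ : Z} {τ : X.presheaf.stalk (i z₀)} (h : Good ψ z₀ τ) :
    ∃ (V : X.Opens) (hV : i z₀ ∈ V) (t : Γ(X, V)), X.presheaf.germ V (i z₀) hV t = τ ∧
      ∀ (z : Z) (hz : i z ∈ V), Good ψ z (X.presheaf.germ V (i z) hz t) := by
  obtain ⟨g, hg, rfl⟩ := h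
  obtain ⟨V₁, hV₁, y, rfl⟩ := TopCat.Presheaf.exists_germ_eq (kernel (ClSub.unitToPush i)).presheaf g
  let N := (Scheme.Modules.pullback i).obj (kernel (ClSub.unitToPush i))
  let η : Γ(N, i ⁻¹ᵁ V₁) :=
    ((Scheme.Modules.pullbackPushforwardAdjunction i).unit.app (kernel (ClSub.unitToPush i))).app V₁ y
  have hη : ∀ (z : Z) (hz : i z ∈ V₁), canAdd i (kernel (ClSub.unitToPush i)) z
      ((kernel (ClSub.unitToPush i)).presheaf.germ V₁ (i z) hz y) = N.presheaf.germ (i ⁻¹ᵁ V₁) z hz η :=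
    fun z hz => canAdd_germ i _ z V₁ hz y
  have h1 : N.presheaf.germ (i ⁻¹ᵁ V₁) z₀ hV₁ η = N.presheaf.germ ⊤ z₀ trivial (glob ψ) := by
    rw [← hη, hg]
    exact (germ_glob ψ z₀).symm
  obtain ⟨W, hzW, iW₁, iW₂, hW⟩ := TopCat.Presheaf.germ_eq N.presheaf (V := ⊤) z₀ hV₁ (show z₀ ∈ (⊤ : Z.Opens) from trivial)
    _ _ h1
  obtain ⟨W', hW'o, hW'⟩ := i.isEmbedding.isInducing.isOpen_iff.mp W.isOpen
  let V₂ : X.Opens := V₁ ⊓ ⟨W', hW'o⟩
  have hz₀V₂ : i z₀ ∈ V₂ := ⟨hV₁, by
    have : z₀ ∈ i ⁻¹' W' := by rw [hW']; exact hzW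
    exact this⟩
  have hle : V₂ ≤ V₁ := inf_le_left
  refine ⟨V₂, hz₀V₂, X.presheaf.map (homOfLE hle).op ((kernel.ι (ClSub.unitToPush i)).app V₁ y : Γ(X, V₁)), ?_, ?_⟩
  · rw [kap_germ]
    exact TopCat.Presheaf.germ_res_apply X.presheaf (homOfLE hle) (i z₀) hz₀V₂ _
  · intro z hz
    refine ⟨(kernel (ClSub.unitToPush i)).presheaf.germ V₁ (i z) (hle hz) y, ?_, ?_⟩
    · rw [hη, ← germ_glob ψ z]
      have hzW' : z ∈ W := by
        have : z ∈ i ⁻¹' W' := hz.2
        rw [hW'] at this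
        exact this
      have h2 := congrArg (N.presheaf.germ W z hzW') hW
      rw [TopCat.Presheaf.germ_res_apply, TopCat.Presheaf.germ_res_apply] at h2
      exact h2
    · rw [kap_germ]
      exact (TopCat.Presheaf.germ_res_apply X.presheaf (homOfLE hle) (i z) hz _).symm

/-- The class of `s / τ^a` modulo the ideal of `Z` does not depend on the good element `τ`. -/
theorem unique [IsIntegral X] [IsLocallyNoetherian X] {a : ℕ} {z : Z} {τ τ' c c' : X.presheaf.stalk (i z)}
    (h : Good ψ z τ) (h' : Good ψ z τ') (hτ : τ ≠ 0) (e : c * τ ^ a = c' * τ' ^ a) :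
    i.stalkMap z c = i.stalkMap z c' := by
  have h1 := h'.sub_mem h
  rw [h.span_eq, Ideal.span_singleton_pow, Ideal.mem_span_singleton] at h1
  obtain ⟨r, hr⟩ := h1
  have h2 : τ' = τ * (1 + τ * r) := by
    have : τ' = τ + τ ^ 2 * r := by rw [← hr]; ring
    rw [this]; ring
  rw [h2, mul_pow] at e
  have h3 : c = c' * (1 + τ * r) ^ a := by
    have h4 : τ ^ a ≠ 0 := pow_ne_zero _ hτ
    apply mul_right_cancel₀ h4
    rw [e]; ring
  have h5 : i.stalkMap z τ = 0 := h.mem
  rw [h3, map_mul, map_pow, map_add, map_one, map_mul, h5, zero_mul, add_zero, one_pow, mul_one]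

/-- The classes of the quotients `s / τ^a` glue to a global section of `O_Z`. -/
theorem exists_section [IsIntegral X] [IsLocallyNoetherian X] (hK : ∀ z, Ix i z ≠ ⊥) (s : Γ(X, ⊤)) (a : ℕ)
    (hs : ∀ z : Z, X.presheaf.germ ⊤ (i z) trivial s ∈ (Ix i z) ^ a) :
    ∃ γ : Γ(Z, ⊤), ∀ (z : Z) (τ c : X.presheaf.stalk (i z)), Good ψ z τ →
      X.presheaf.germ ⊤ (i z) trivial s = c * τ ^ a → Z.presheaf.germ ⊤ z trivial γ = i.stalkMap z c := by
  have hne : ∀ {z : Z} {τ : X.presheaf.stalk (i z)}, Good ψ z τ → τ ≠ 0 := by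
    intro z τ h h0
    apply hK z
    rw [h.span_eq, h0, Ideal.span_singleton_eq_bot]
  -- local data
  have hloc : ∀ z : Z, ∃ (V : X.Opens) (_ : i z ∈ V) (t c : Γ(X, V)),
      (∀ (w : Z) (hw : i w ∈ V), Good ψ w (X.presheaf.germ V (i w) hw t)) ∧
      ∀ (w : Z) (hw : i w ∈ V), X.presheaf.germ ⊤ (i w) trivial s =
        X.presheaf.germ V (i w) hw c * (X.presheaf.germ V (i w) hw t) ^ a := by
    intro z
    obtain ⟨τ, hτ⟩ := exists_good ψ z
    obtain ⟨V, hV, t, ht, hgood⟩ := hτ.exists_open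
    have h1 := hs z
    rw [hτ.span_eq, Ideal.span_singleton_pow, Ideal.mem_span_singleton'] at h1
    obtain ⟨c, hc⟩ := h1
    obtain ⟨V', hV', c', rfl⟩ := X.presheaf.exists_germ_eq c
    let W := V ⊓ V'
    have hzW : i z ∈ W := ⟨hV, hV'⟩
    let tW : Γ(X, W) := X.presheaf.map (homOfLE (inf_le_left : W ≤ V)).op t
    let cW : Γ(X, W) := X.presheaf.map (homOfLE (inf_le_right : W ≤ V')).op c'
    have htW : X.presheaf.germ W (i z) hzW tW = τ := by
      rw [← ht]
      exact TopCat.Presheaf.germ_res_apply X.presheaf _ _ hzW _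
    have hcW : X.presheaf.germ W (i z) hzW cW = X.presheaf.germ V' (i z) hV' c' :=
      TopCat.Presheaf.germ_res_apply X.presheaf _ _ hzW _
    have h2 : X.presheaf.germ ⊤ (i z) trivial s = X.presheaf.germ W (i z) hzW (cW * tW ^ a) := by
      rw [map_mul, map_pow, htW, hcW, hc]
    obtain ⟨U, hzU, iU₁, iU₂, hU⟩ := TopCat.Presheaf.germ_eq X.presheaf (U := ⊤) (i z)
      (show i z ∈ (⊤ : X.Opens) from trivial) hzW _ _ h2
    refine ⟨U, hzU, X.presheaf.map iU₂.op tW, X.presheaf.map iU₂.op cW, ?_, ?_⟩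
    · intro w hw
      have h3 : X.presheaf.germ U (i w) hw (X.presheaf.map iU₂.op tW) =
          X.presheaf.germ V (i w) (iU₂.le hw).1 t :=
        (TopCat.Presheaf.germ_res_apply X.presheaf _ _ hw _).trans
          (TopCat.Presheaf.germ_res_apply X.presheaf _ _ (iU₂.le hw) _)
      rw [h3]
      exact hgood w _
    · intro w hw
      have h3 := congrArg (X.presheaf.germ U (i w) hw) hU
      rw [TopCat.Presheaf.germ_res_apply] at h3
      rw [h3, map_mul, map_pow, map_mul, map_pow]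
  choose V hV t c hgood hc using hloc
  let U : Z → Z.Opens := fun z => i ⁻¹ᵁ (V z)
  let σ : ∀ z, Γ(Z, U z) := fun z => i.app (V z) (c z)
  have hσ : ∀ (z w : Z) (hw : w ∈ U z), Z.presheaf.germ (U z) w hw (σ z) =
      i.stalkMap w (X.presheaf.germ (V z) (i w) hw (c z)) := fun z w hw =>
    (Scheme.Hom.germ_stalkMap_apply i (V z) w hw (c z)).symm
  have hcov : (⊤ : Z.Opens) ≤ iSup U := fun z _ => Opens.mem_iSup.mpr ⟨z, hV z⟩
  obtain ⟨γ, hγ, -⟩ := Z.sheaf.existsUnique_gluing' U ⊤ (fun z => homOfLE le_top) hcov σ (by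
    intro z z'
    refine TopCat.Presheaf.section_ext Z.sheaf (U z ⊓ U z') _ _ fun w hw => ?_
    change Z.presheaf.germ _ w hw (Z.presheaf.map _ (σ z)) = Z.presheaf.germ _ w hw (Z.presheaf.map _ (σ z'))
    rw [TopCat.Presheaf.germ_res_apply, TopCat.Presheaf.germ_res_apply, hσ, hσ]
    exact unique ψ (hgood z w hw.1) (hgood z' w hw.2) (hne (hgood z w hw.1))
      ((hc z w hw.1).symm.trans (hc z' w hw.2)))
  refine ⟨γ, fun z τ d hτ hd => ?_⟩
  have h1 : Z.presheaf.germ ⊤ z trivial γ = Z.presheaf.germ (U z) z (hV z) (σ z) := by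
    rw [← hγ z]
    exact (TopCat.Presheaf.germ_res_apply Z.presheaf _ _ (hV z) _).symm
  rw [h1, hσ]
  exact unique ψ (hgood z z (hV z)) hτ (hne (hgood z z (hV z))) ((hc z z (hV z)).symm.trans hd)

end K372.ConTriv
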