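import Groth.Agent.Resolve.K372.FinSing
import Groth.Agent.CurvesC.ComplSections
import Groth.Agent.S1599
import Groth.Agent.S4366

/-!
# Completions of the local rings of a normal scheme dominated by a regular scheme

If `f : X ⟶ Y` is proper and dominant, `X` regular, `Y` normal, both integral, `Y` locally Noetherian, then the
completions of the local rings of `Y` are normal domains.
-/

set_option autoImplicit false
universe u

open CategoryTheory CategoryTheory.Limits AlgebraicGeometry TopologicalSpace Opposite IsLocalRing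
open Groth.Agent Groth.Agent.CurvesC.ComplSections

namespace K372.CplAlt

/-- A local ring which is a normal ring is an integrally closed domain. -/
theorem of_isNormalRing {R : Type u} [CommRing R] [IsLocalRing R] (h : EGA4.IsNormalRing R) :
    IsDomain R ∧ IsIntegrallyClosed R := by
  have e : R ≃+* Localization.AtPrime (maximalIdeal R) :=
    (IsLocalization.atUnits R (maximalIdeal R).primeCompl (S := Localization.AtPrime (maximalIdeal R))
      (fun x hx => by
        by_contra hc
        exact hx ((mem_maximalIdeal x).mpr hc))).toRingEquiv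
  obtain ⟨h1, h2⟩ := h (maximalIdeal R)
  exact ⟨e.toMulEquiv.isDomain _, IsIntegrallyClosed.of_equiv e.symm⟩

/-- An integrally closed domain is a normal ring. -/
theorem isNormalRing_of_isIntegrallyClosed (R : Type u) [CommRing R] [IsDomain R] [IsIntegrallyClosed R] :
    EGA4.IsNormalRing R := fun p _ =>
  ⟨IsLocalization.isDomain_localization p.primeCompl_le_nonZeroDivisors,
    isIntegrallyClosed_of_isLocalization _ p.primeCompl p.primeCompl_le_nonZeroDivisors⟩

/-- The completion of a normal Noetherian local domain `A` is a normal domain if `Spec A` is dominated by a proper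
regular scheme. -/
theorem isIntegrallyClosed_cpl (A : Type u) [CommRing A] [IsDomain A] [IsIntegrallyClosed A] [IsLocalRing A]
    [IsNoetherianRing A] {X : Scheme.{u}} (f : X ⟶ Spec (CommRingCat.of A)) [IsProper f]
    (hreg : ∀ x : X, IsRegularLocalRing (X.presheaf.stalk x)) (x : X) (hx : (f x).asIdeal = ⊥) :
    IsDomain (Curv2.cpl A) ∧ IsIntegrallyClosed (Curv2.cpl A) := by
  let alg1 := secAlg f ⊤
  obtain ⟨hfin, hnor⟩ := finite_and_normal A f hreg
  have hinj : Function.Injective (algebraMap A Γ(X, ⊤)) := by
    rw [injective_iff_map_eq_zero]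
    intro a ha
    have h1 : (f.appTop) ((Scheme.ΓSpecIso (CommRingCat.of A)).inv a) = 0 := by
      have h2 : f.appLE ⊤ ⊤ le_top = f.app ⊤ := f.appLE_eq_app
      exact (congrArg (fun k => k.hom ((Scheme.ΓSpecIso (CommRingCat.of A)).inv a)) h2).symm.trans ha
    have h3 : x ∉ f ⁻¹ᵁ ((Spec (CommRingCat.of A)).basicOpen ((Scheme.ΓSpecIso (CommRingCat.of A)).inv a)) := by
      rw [Scheme.preimage_basicOpen_top, h1, Scheme.basicOpen_zero]
      exact fun h => h
    have h4 : f x ∉ PrimeSpectrum.basicOpen a := by
      intro h5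
      apply h3
      change f x ∈ (Spec (CommRingCat.of A)).basicOpen ((Scheme.ΓSpecIso (CommRingCat.of A)).inv a)
      rw [basicOpen_eq_of_affine']
      have h6 : (Scheme.ΓSpecIso (CommRingCat.of A)).hom ((Scheme.ΓSpecIso (CommRingCat.of A)).inv a) = a := by simp
      rw [h6]
      exact h5
    have h5 : a ∈ (f x).asIdeal := by
      by_contra hc
      exact h4 hc
    rw [hx] at h5
    exact h5
  have h1 := Groth.Agent.S1599.result A A Γ(X, ⊤) hinj (isNormalRing_of_isIntegrallyClosed A) hnor
  have key : ∀ I : Ideal A, I = maximalIdeal A → EGA4.IsNormalRing (AdicCompletion I A) →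
      EGA4.IsNormalRing (Curv2.cpl A) := by
    rintro _ rfl h
    exact h
  exact of_isNormalRing (key _ (by rw [Algebra.algebraMap_self, Ideal.map_id]) h1)

/-- Completions of the local rings of a normal scheme dominated by a regular scheme are normal domains. -/
theorem isIntegrallyClosed_cpl_stalk {X Y : Scheme.{u}} [IsIntegral X] [IsIntegral Y] [IsLocallyNoetherian Y]
    (f : X ⟶ Y) [IsProper f] (hf : f (genericPoint X) = genericPoint Y)
    (hreg : ∀ x : X, IsRegularLocalRing (X.presheaf.stalk x)) (y : Y)
    (hy : IsDomain (Y.presheaf.stalk y) ∧ IsIntegrallyClosed (Y.presheaf.stalk y)) :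
    IsDomain (Curv2.cpl (Y.presheaf.stalk y)) ∧ IsIntegrallyClosed (Curv2.cpl (Y.presheaf.stalk y)) := by
  obtain ⟨hd, hic⟩ := hy
  have hsp : genericPoint Y ⤳ y := (genericPoint_spec Y).specializes trivial
  obtain ⟨z, hz⟩ : genericPoint Y ∈ Set.range (Y.fromSpecStalk y) := by
    rw [Scheme.range_fromSpecStalk]; exact hsp
  have hzbot : (z : PrimeSpectrum (Y.presheaf.stalk y)).asIdeal = ⊥ := by
    let z0 : Spec (Y.presheaf.stalk y) := (⟨⊥, Ideal.isPrime_bot⟩ : PrimeSpectrum (Y.presheaf.stalk y))
    have h1 : z0 ⤳ z := (PrimeSpectrum.le_iff_specializes _ _).mp bot_le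
    have h2 : Y.fromSpecStalk y z0 ⤳ genericPoint Y := by
      rw [← hz]
      exact h1.map (Y.fromSpecStalk y).continuous
    have h3 : Y.fromSpecStalk y z0 = genericPoint Y :=
      (h2.antisymm ((genericPoint_spec Y).specializes trivial)).eq
    have h4 : z0 = z := (Y.fromSpecStalk y).isEmbedding.injective (h3.trans hz.symm)
    rw [← h4]
  obtain ⟨t, ht1, ht2⟩ := Scheme.Pullback.exists_preimage_pullback (f := f) (g := Y.fromSpecStalk y)
    (genericPoint X) z (hf.trans hz.symm)
  let A := Y.presheaf.stalk y
  let g : pullback f (Y.fromSpecStalk y) ⟶ Spec (CommRingCat.of A) := pullback.snd f (Y.fromSpecStalk y)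
  have hg : IsProper g := MorphismProperty.pullback_snd _ _ inferInstance
  have hreg' : ∀ t : (pullback f (Y.fromSpecStalk y) : Scheme.{u}),
      IsRegularLocalRing ((pullback f (Y.fromSpecStalk y)).presheaf.stalk t) := fun t => by
    have h1 := Groth.Agent.S4366.result f y t
    have h2 := hreg (pullback.fst f (Y.fromSpecStalk y) t)
    exact IsRegularLocalRing.of_ringEquiv
      (asIso ((pullback.fst f (Y.fromSpecStalk y)).stalkMap t)).commRingCatIsoToRingEquiv
  exact isIntegrallyClosed_cpl A g hreg' t (by
    have h1 : g t = z := ht2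
    rw [h1]
    exact hzbot)

end K372.CplAlt
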