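import Groth.Agent.Resolve.K372.CplStalk
import Groth.Agent.Resolve.K372.AdmDesc
import Groth.Agent.CurvesB.EtaleCompl
import Groth.Agent.CurvesB.CplMap
import Groth.Agent.Models.RMGRing
import Groth.Agent.Models.RMBlow
import Groth.Agent.S1650
import Groth.Agent.Flat2C.BlowProper
import Groth.Agent.S0568
import Groth.Agent.S0543
import Groth.Agent.S0547

/-!
# Completions of the local rings of the blowing up of a rational singularity

* `exists_cpl_equiv`: `X ⟶ Spec A`, a point `q` of `X × Spec Â` over the closed point: the completed local rings of `X` and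
  of `X × Spec Â` agree.
* `cpl_normal`: completed local rings of a normal scheme of finite type over a complete local ring are normal.
* `main`: if the completion of `A` defines a rational singularity then the completed local rings of the closed points of the
  blowing up of the maximal ideal are normal domains.
-/

set_option autoImplicit false
universe u

open CategoryTheory CategoryTheory.Limits AlgebraicGeometry TopologicalSpace Opposite IsLocalRing

namespace K372.CplBlow

open Groth.Agent

theorem exists_cpl_equiv (A : Type u) [CommRing A] [IsLocalRing A] [IsNoetherianRing A] {X : Scheme.{u}}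
    (f : X ⟶ Spec (CommRingCat.of A)) (q : ↥(Curv2.bcCpl A f)) (hq : f (Curv2.bcCplFst A f q) = closedPoint A) :
    Nonempty (Curv2.cpl (X.presheaf.stalk (Curv2.bcCplFst A f q)) ≃+* Curv2.cpl ((Curv2.bcCpl A f).presheaf.stalk q)) := by
  have hloc : maximalIdeal (X.presheaf.stalk (Curv2.bcCplFst A f q)) ≤
      (maximalIdeal ((Curv2.bcCpl A f).presheaf.stalk q)).comap ((Curv2.bcCplFst A f).stalkMap q).hom :=
    fun a ha => map_nonunit ((Curv2.bcCplFst A f).stalkMap q).hom a ha
  have hpow : ∀ n, maximalIdeal (X.presheaf.stalk (Curv2.bcCplFst A f q)) ^ n ≤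
      (maximalIdeal ((Curv2.bcCpl A f).presheaf.stalk q) ^ n).comap ((Curv2.bcCplFst A f).stalkMap q).hom := by
    intro n
    rw [← Ideal.map_le_iff_le_comap, Ideal.map_pow]
    exact Ideal.pow_right_mono (Ideal.map_le_iff_le_comap.2 hloc) n
  have hbij : ∀ n, 1 ≤ n → Function.Bijective (Ideal.quotientMap
      (IsLocalRing.maximalIdeal ((Curv2.bcCpl A f).presheaf.stalk q) ^ n)
      ((Curv2.bcCplFst A f).stalkMap q).hom (hpow n)) := fun n hn =>
    CplStalk.bijective_stalk_quotients A (IsNoetherian.noetherian _) X f q hq n hn (hpow n)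
  obtain ⟨e, -⟩ := CurvesB.EtaleCompl.exists_completion_ringEquiv ((Curv2.bcCplFst A f).stalkMap q).hom
    (maximalIdeal (X.presheaf.stalk (Curv2.bcCplFst A f q))) (maximalIdeal ((Curv2.bcCpl A f).presheaf.stalk q)) hloc
    (fun n a ha => by
      rcases Nat.eq_zero_or_pos n with rfl | hn
      · simp
      · have h1 := (hbij n hn).1 (a₁ := Ideal.Quotient.mk _ a) (a₂ := 0) (by
          rw [map_zero, Ideal.quotientMap_mk, Ideal.Quotient.eq_zero_iff_mem]
          exact ha)
        exact Ideal.Quotient.eq_zero_iff_mem.1 h1)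
    (fun n b => by
      rcases Nat.eq_zero_or_pos n with rfl | hn
      · exact ⟨0, by simp⟩
      · obtain ⟨a, ha⟩ := (hbij n hn).2 (Ideal.Quotient.mk _ b)
        obtain ⟨a, rfl⟩ := Ideal.Quotient.mk_surjective a
        rw [Ideal.quotientMap_mk] at ha
        exact ⟨a, Ideal.Quotient.eq.1 ha.symm⟩)
  exact ⟨e⟩

theorem normal_of_ringEquiv {A B : Type*} [CommRing A] [CommRing B] (e : A ≃+* B)
    (h : IsDomain A ∧ IsIntegrallyClosed A) : IsDomain B ∧ IsIntegrallyClosed B := by
  obtain ⟨h1, h2⟩ := h
  have h3 : IsDomain B := e.symm.toMulEquiv.isDomain A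
  exact ⟨h3, IsIntegrallyClosed.of_equiv e⟩

/-- Completed local rings of a normal scheme of finite type over a complete local ring are normal. -/
theorem cpl_normal {S : Type u} [CommRing S] [IsLocalRing S] [IsNoetherianRing S] [IsAdicComplete (maximalIdeal S) S]
    {Y : Scheme.{u}} (g : Y ⟶ Spec (CommRingCat.of S)) [LocallyOfFiniteType g] (y : Y)
    (h : IsDomain (Y.presheaf.stalk y) ∧ IsIntegrallyClosed (Y.presheaf.stalk y)) :
    IsDomain (Curv2.cpl (Y.presheaf.stalk y)) ∧ IsIntegrallyClosed (Curv2.cpl (Y.presheaf.stalk y)) := by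
  obtain ⟨W, hW, hyW, -⟩ := exists_isAffineOpen_mem_and_subset (X := Y) (x := y) (U := ⊤) trivial
  have hft : ((Scheme.ΓSpecIso (CommRingCat.of S)).inv ≫ g.appLE ⊤ W le_top).hom.FiniteType := by
    rw [CommRingCat.hom_comp]
    refine (LocallyOfFiniteType.finiteType_appLE g (isAffineOpen_top _) hW le_top).comp ?_
    exact RingHom.FiniteType.of_surjective _
      (ConcreteCategory.bijective_of_isIso (Scheme.ΓSpecIso (CommRingCat.of S)).inv).2
  let alg : Algebra S Γ(Y, W) := ((Scheme.ΓSpecIso (CommRingCat.of S)).inv ≫ g.appLE ⊤ W le_top).hom.toAlgebra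
  have hft' : Algebra.FiniteType S Γ(Y, W) := hft
  let alg1 : Algebra Γ(Y, W) (Y.presheaf.stalk y) := (Y.presheaf.germ W y hyW).hom.toAlgebra
  let Q := (hW.primeIdealOf ⟨y, hyW⟩).asIdeal
  have hloc : IsLocalization.AtPrime (Y.presheaf.stalk y) Q := hW.isLocalization_stalk ⟨y, hyW⟩
  let e : Localization.AtPrime Q ≃+* Y.presheaf.stalk y :=
    (IsLocalization.algEquiv Q.primeCompl (Localization.AtPrime Q) (Y.presheaf.stalk y)).toRingEquiv
  obtain ⟨h1, h2⟩ := normal_of_ringEquiv e.symm h
  exact normal_of_ringEquiv (CurvesB.CplMap.congrLocal e) (Models.RMGRing.cpl_of_finiteType S Q)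

/-- The completed local rings of the closed points of the blowing up of the maximal ideal. -/
theorem main (A : Type u) [CommRing A] [IsLocalRing A] [IsNoetherianRing A] (hdim : ringKrullDim A = 2)
    [IsDomain (Curv2.cpl A)] [IsIntegrallyClosed (Curv2.cpl A)] (hA : Curv2.IsRationalSing (Curv2.cpl A))
    (X : Scheme.{u}) (b : X ⟶ Spec (CommRingCat.of A))
    (hb : BlowUp.IsBlowUp b (Curv2.idealSheaf A (maximalIdeal A))) (x : X) (hx : IsClosed ({x} : Set X)) :
    IsDomain (Curv2.cpl (X.presheaf.stalk x)) ∧ IsIntegrallyClosed (Curv2.cpl (X.presheaf.stalk x)) := by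
  have hN : IsNoetherianRing (Curv2.cpl A) := Groth.Agent.S0543.result A (maximalIdeal A)
  have hd : ringKrullDim (Curv2.cpl A) = 2 := (Groth.Agent.S0547.result A).trans hdim
  have hc : IsAdicComplete (maximalIdeal (Curv2.cpl A)) (Curv2.cpl A) := inferInstance
  have hNag : CAlg.IsNagata (Curv2.cpl A) := Groth.Agent.S0568.result _
  have hp : IsProper b := Groth.Agent.Flat2C.BlowProper.isProper_of_isBlowUp hb (fun U => by
    have : IsLocallyNoetherian (Spec (CommRingCat.of A)) := inferInstance
    have := IsLocallyNoetherian.component_noetherian (X := Spec (CommRingCat.of A)) U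
    exact IsNoetherian.noetherian _)
  have hbx : b x = closedPoint A := by
    have h1 : IsClosed ({b x} : Set (Spec (CommRingCat.of A))) := by
      have := b.isClosedMap _ hx
      rwa [Set.image_singleton] at this
    have h2 := (PrimeSpectrum.isClosed_singleton_iff_isMaximal (b x)).1 h1
    exact PrimeSpectrum.ext (IsLocalRing.eq_maximalIdeal h2)
  let g := Spec.map (CommRingCat.ofHom (algebraMap A (Curv2.cpl A)))
  have hg : Flat g := by
    rw [Flat.SpecMap_iff]
    exact (RingHom.flat_algebraMap_iff).2 inferInstance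
  have H : IsPullback (pullback.fst b g) (pullback.snd b g) b g := IsPullback.of_hasPullback b g
  have hb2 := Groth.Agent.Divis.BlowUpFormal.isBlowUp_of_isPullback hb H
  rw [Models.RMBlow.comap_SpecMap, ← AdicCompletion.maximalIdeal_eq_map] at hb2
  have hnor := Groth.Agent.S1650.result (Curv2.cpl A) hNag hd hA _ _ hb2
  obtain ⟨q, hq1, hq2⟩ := Scheme.Pullback.exists_preimage_pullback (f := b) (g := g) x (closedPoint (Curv2.cpl A)) (by
    rw [hbx]
    exact (IsLocalRing.comap_closedPoint (algebraMap A (Curv2.cpl A))).symm)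
  have hq : Curv2.bcCplFst A b q = x := hq1
  subst hq
  obtain ⟨e⟩ := exists_cpl_equiv A b q hbx
  refine normal_of_ringEquiv e.symm (cpl_normal (Curv2.bcCplSnd A b) q (hnor q))

end K372.CplBlow
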