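import Groth.Agent.CurvesC.RegCompl

/-!
# Local rings of the base change to the completion, modulo powers of the maximal ideals

`X` over a local ring `A` with finitely generated maximal ideal, `Y = X ×_A Â`, `q ∈ Y` over the closed point with
image `p ∈ X`: `O_{X,p}/m^n → O_{Y,q}/m^n` is bijective.
-/

set_option autoImplicit false
universe u

open CategoryTheory CategoryTheory.Limits AlgebraicGeometry TopologicalSpace Opposite IsLocalRing

namespace K372.CplStalk

open Groth.Agent.CurvesC.RegCompl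

/-- Surjectivity modulo the `n`-th power, from surjectivity modulo the maximal ideal. -/
theorem exists_sub_mem_pow {R S : Type u} [CommRing R] [CommRing S] [IsLocalRing R] [IsLocalRing S] (g : R →+* S)
    (hm : (maximalIdeal R).map g = maximalIdeal S) (h1 : ∀ y : S, ∃ x : R, y - g x ∈ maximalIdeal S) (n : ℕ) (y : S) :
    ∃ x : R, y - g x ∈ maximalIdeal S ^ n := by
  induction n generalizing y with
  | zero => exact ⟨0, by simp⟩
  | succ n ih =>
    obtain ⟨x, hx⟩ := ih y
    have key : ∀ z ∈ maximalIdeal S ^ n, ∃ x ∈ maximalIdeal R ^ n, z - g x ∈ maximalIdeal S ^ (n + 1) := by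
      intro z hz
      rw [← hm, ← Ideal.map_pow] at hz
      refine Submodule.span_induction (p := fun z _ => ∃ x ∈ maximalIdeal R ^ n,
        z - g x ∈ maximalIdeal S ^ (n + 1)) ?_ ?_ ?_ ?_ hz
      · rintro _ ⟨x, hx, rfl⟩
        exact ⟨x, hx, by simp⟩
      · exact ⟨0, zero_mem _, by simp⟩
      · rintro a b _ _ ⟨x, hx, hx'⟩ ⟨y, hy, hy'⟩
        refine ⟨x + y, add_mem hx hy, ?_⟩
        have := add_mem hx' hy'
        rw [map_add, add_sub_add_comm]
        exact this
      · rintro c a _ ⟨x, hx, hx'⟩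
        obtain ⟨d, hd⟩ := h1 c
        refine ⟨d * x, Ideal.mul_mem_left _ _ hx, ?_⟩
        have h2 : c • a - g (d * x) = c * (a - g x) + (c - g d) * g x := by
          rw [map_mul, smul_eq_mul]; ring
        rw [h2]
        refine add_mem (Ideal.mul_mem_left _ _ hx') ?_
        rw [pow_succ']
        refine Ideal.mul_mem_mul hd ?_
        rw [← hm, ← Ideal.map_pow]
        exact Ideal.mem_map_of_mem _ hx
    obtain ⟨x', -, hx'⟩ := key _ hx
    refine ⟨x + x', ?_⟩
    rw [map_add, ← sub_sub]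
    exact hx'

section

variable (A : Type u) [CommRing A] [IsLocalRing A] (hm : (maximalIdeal A).FG) {X : Scheme.{u}}
  (f : X ⟶ Spec (CommRingCat.of A))

include hm in
theorem exists_sub_mem (a' : Curv2.cpl A) : ∃ a : A, a' - algebraMap A (Curv2.cpl A) a ∈
      (maximalIdeal A).map (algebraMap A (Curv2.cpl A)) := by
  have := AdicCompletion.isLocalRing_of_fg hm
  have := AdicCompletion.algebraMap_isLocalHom_of_fg hm
  obtain ⟨b, hb⟩ := (AdicCompletion.residueField_map_bijective_of_fg hm).2 (residue _ a')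
  obtain ⟨a, rfl⟩ := residue_surjective b
  refine ⟨a, ?_⟩
  rw [← AdicCompletion.maximalIdeal_eq_map_of_fg hm, ← residue_eq_zero_iff, map_sub, ← hb, sub_eq_zero]
  rfl

theorem isPushout_sections (U : X.Opens) (hU : IsAffineOpen U) :
    IsPushout ((Scheme.ΓSpecIso (CommRingCat.of A)).inv ≫ f.appLE ⊤ U le_top)
      (CommRingCat.ofHom (algebraMap A (Curv2.cpl A)))
      ((Curv2.bcCplFst A f).appLE U (Curv2.bcCplFst A f ⁻¹ᵁ U) le_rfl)
      ((Scheme.ΓSpecIso (CommRingCat.of (Curv2.cpl A))).inv ≫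
        (Curv2.bcCplSnd A f).appLE ⊤ (Curv2.bcCplFst A f ⁻¹ᵁ U) le_top) := by
  have H := IsPullback.of_hasPullback f (Spec.map (CommRingCat.ofHom (algebraMap A (Curv2.cpl A))))
  have h1 := isIso_pushoutSection_of_isAffineOpen H (US := ⊤) (UT := ⊤) (UX := U)
    (UY := Curv2.bcCplFst A f ⁻¹ᵁ U) le_top le_top (by simp) (isAffineOpen_top _) (isAffineOpen_top _) hU
  have h2 := (isIso_pushoutSection_iff H le_top le_top (by simp)).mp h1
  refine h2.of_iso (Scheme.ΓSpecIso (CommRingCat.of A)) (Iso.refl _)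
    (Scheme.ΓSpecIso (CommRingCat.of (Curv2.cpl A))) (Iso.refl _) ?_ ?_ ?_ ?_
  · simp
  · rw [← Iso.inv_comp_eq, ← Category.assoc, ← Iso.eq_comp_inv]
    have := Scheme.ΓSpecIso_inv_naturality (CommRingCat.ofHom (algebraMap A (Curv2.cpl A)))
    rw [this]
    simp [Scheme.Hom.appLE]
  · simp
  · simp

theorem isAffineHom_bcCplFst : IsAffineHom (Curv2.bcCplFst A f) :=
  MorphismProperty.pullback_fst _ _ inferInstance

/-- If `f x` is the closed point, the maximal ideal of `A` lands in the prime of `x`. -/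
theorem map_maximalIdeal_le (U : X.Opens) (hU : IsAffineOpen U) (x : X) (hx : x ∈ U)
    (hfx : f x = closedPoint A) :
    (maximalIdeal A).map ((Scheme.ΓSpecIso (CommRingCat.of A)).inv ≫ f.appLE ⊤ U le_top).hom ≤
      (hU.primeIdealOf ⟨x, hx⟩).asIdeal := by
  rw [Ideal.map_le_iff_le_comap]
  intro a ha
  rw [Ideal.mem_comap, hU.primeIdealOf_eq_map_closedPoint]
  change X.presheaf.germ U x hx ((f.appLE ⊤ U le_top) ((Scheme.ΓSpecIso (CommRingCat.of A)).inv a)) ∈
    maximalIdeal _
  rw [mem_maximalIdeal, mem_nonunits_iff]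
  intro hu
  have h1 : x ∈ X.basicOpen ((f.appLE ⊤ U le_top) ((Scheme.ΓSpecIso (CommRingCat.of A)).inv a)) :=
    (Scheme.mem_basicOpen X _ x hx).mpr hu
  have h0 : x ∈ U ⊓ f ⁻¹ᵁ ((Spec (CommRingCat.of A)).basicOpen ((Scheme.ΓSpecIso (CommRingCat.of A)).inv a)) := by
    rw [← Scheme.basicOpen_appLE (e := le_top)]
    exact h1
  have h2 : f x ∈ PrimeSpectrum.basicOpen ((Scheme.ΓSpecIso (CommRingCat.of A)).hom
    ((Scheme.ΓSpecIso (CommRingCat.of A)).inv a)) := by
    rw [← basicOpen_eq_of_affine']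
    exact h0.2
  rw [hfx] at h2
  apply h2
  have h3 : (Scheme.ΓSpecIso (CommRingCat.of A)).hom ((Scheme.ΓSpecIso (CommRingCat.of A)).inv a) = a := by
    simp
  rw [h3]
  exact ha

end

/-- Bijectivity modulo powers, pushout form.  `R → R'` is the base change of `A → A'`, where `A → A'/m A'` is surjective and
`A → A/m^n` extends to `A'`. -/
theorem bijective_of_isPushout {A A' R R' : CommRingCat.{u}} {α : A ⟶ R} {φ : A ⟶ A'} {g : R ⟶ R'}
    {β : A' ⟶ R'} (H : IsPushout α φ g β) (m : Ideal A)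
    (hm : ∀ a' : A', ∃ a : A, a' - φ.hom a ∈ m.map φ.hom) (n : ℕ)
    (ε : A' →+* A ⧸ m ^ n) (hε : ∀ a, ε (φ.hom a) = Ideal.Quotient.mk _ a)
    (p : Ideal R) [p.IsPrime] (q : Ideal R') [q.IsPrime] (hp : m.map α.hom ≤ p) (hq : q.comap g.hom = p)
    (Rp Rq : Type u) [CommRing Rp] [CommRing Rq] [IsLocalRing Rp] [IsLocalRing Rq] (i : R →+* Rp) (j : R' →+* Rq)
    (hi : @IsLocalization.AtPrime R _ Rp _ i.toAlgebra p _) (hj : @IsLocalization.AtPrime R' _ Rq _ j.toAlgebra q _)
    (G : Rp →+* Rq) (hG : G.comp i = j.comp g.hom) (hGm : (maximalIdeal Rp).map G = maximalIdeal Rq) (hn : n ≠ 0)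
    (h : maximalIdeal Rp ^ n ≤ (maximalIdeal Rq ^ n).comap G) :
    Function.Bijective (Ideal.quotientMap (maximalIdeal Rq ^ n) G h) := by
  let := i.toAlgebra
  let := j.toAlgebra
  have hpp : p.map g.hom ≤ q := Ideal.map_le_iff_le_comap.mpr hq.ge
  have hsurj := exists_sub_mem_of_isPushout H m hm p hp
  constructor
  · -- the retraction `ρ : R' → Rp / m^n`
    have hmn : ∀ a ∈ m ^ n, (Ideal.Quotient.mk (maximalIdeal Rp ^ n)).comp (i.comp α.hom) a = 0 := by
      intro a ha
      rw [RingHom.comp_apply, Ideal.Quotient.eq_zero_iff_mem]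
      have h1 : (m ^ n).map (i.comp α.hom) ≤ maximalIdeal Rp ^ n := by
        rw [Ideal.map_pow]
        refine Ideal.pow_right_mono ?_ n
        rw [← Ideal.map_map]
        refine (Ideal.map_mono hp).trans ?_
        exact (IsLocalization.AtPrime.map_eq_maximalIdeal p Rp).le
      exact h1 (Ideal.mem_map_of_mem _ ha)
    let ρA : A' ⟶ CommRingCat.of (Rp ⧸ maximalIdeal Rp ^ n) :=
      CommRingCat.ofHom ((Ideal.Quotient.lift (m ^ n) ((Ideal.Quotient.mk (maximalIdeal Rp ^ n)).comp (i.comp α.hom)) hmn).comp ε)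
    let ρR : R ⟶ CommRingCat.of (Rp ⧸ maximalIdeal Rp ^ n) :=
      CommRingCat.ofHom ((Ideal.Quotient.mk (maximalIdeal Rp ^ n)).comp i)
    have hcomm : α ≫ ρR = φ ≫ ρA := by
      ext a
      simp only [ρR, ρA, CommRingCat.hom_comp, RingHom.comp_apply, CommRingCat.hom_ofHom]
      rw [hε]
      rfl
    let ρ : R' ⟶ CommRingCat.of (Rp ⧸ maximalIdeal Rp ^ n) := H.desc ρR ρA hcomm
    have hρ1 : ρ.hom.comp g.hom = (Ideal.Quotient.mk (maximalIdeal Rp ^ n)).comp i := by
      have := H.inl_desc ρR ρA hcomm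
      rw [← CommRingCat.hom_comp]
      change (g ≫ H.desc ρR ρA hcomm).hom = _
      rw [this]
      rfl
    have : Nontrivial (Rp ⧸ maximalIdeal Rp ^ n) := by
      refine Ideal.Quotient.nontrivial_iff.mpr fun h0 => ?_
      have h1 : maximalIdeal Rp ^ n ≤ maximalIdeal Rp := Ideal.pow_le_self hn
      rw [h0] at h1
      exact (maximalIdeal.isMaximal Rp).ne_top (top_le_iff.mp h1)
    have hloc : IsLocalRing (Rp ⧸ maximalIdeal Rp ^ n) :=
      IsLocalRing.of_surjective' (Ideal.Quotient.mk (maximalIdeal Rp ^ n)) Ideal.Quotient.mk_surjective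
    have hlh : IsLocalHom (Ideal.Quotient.mk (maximalIdeal Rp ^ n)) :=
      IsLocalHom.of_surjective _ Ideal.Quotient.mk_surjective
    have hρq : (maximalIdeal (Rp ⧸ maximalIdeal Rp ^ n)).comap ρ.hom = q := by
      have h0 : (maximalIdeal (Rp ⧸ maximalIdeal Rp ^ n)).comap (Ideal.Quotient.mk (maximalIdeal Rp ^ n)) =
          maximalIdeal Rp := ((IsLocalRing.local_hom_TFAE (Ideal.Quotient.mk (maximalIdeal Rp ^ n))).out 0 4).mp hlh
      have h1 : ((maximalIdeal (Rp ⧸ maximalIdeal Rp ^ n)).comap ρ.hom).comap g.hom = p := by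
        rw [Ideal.comap_comap, hρ1, ← Ideal.comap_comap, h0]
        exact IsLocalization.AtPrime.under_maximalIdeal Rp p
      rw [← map_eq_of_surj g.hom p _ h1 hsurj, map_eq_of_surj g.hom p _ hq hsurj]
    have hunit : ∀ y : q.primeCompl, IsUnit (ρ.hom y) := by
      rintro ⟨y, hy⟩
      by_contra hu
      exact hy (hρq ▸ (show ρ.hom y ∈ maximalIdeal _ from hu))
    let σ : Rq →+* Rp ⧸ maximalIdeal Rp ^ n := IsLocalization.lift (M := q.primeCompl) (S := Rq) (g := ρ.hom) hunit
    have hσ : σ.comp G = Ideal.Quotient.mk (maximalIdeal Rp ^ n) := by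
      refine IsLocalization.ringHom_ext p.primeCompl ?_
      change (σ.comp G).comp i = _
      rw [RingHom.comp_assoc, hG, ← RingHom.comp_assoc]
      have h2 : σ.comp j = ρ.hom := IsLocalization.lift_comp hunit
      rw [h2, hρ1]
      rfl
    have hσm : (maximalIdeal Rq ^ n) ≤ RingHom.ker σ := by
      rw [← hGm, ← Ideal.map_pow, Ideal.map_le_iff_le_comap]
      intro x hx
      rw [Ideal.mem_comap, RingHom.mem_ker, ← RingHom.comp_apply, hσ]
      exact Ideal.Quotient.eq_zero_iff_mem.mpr hx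
    rw [injective_iff_map_eq_zero]
    intro x hx
    obtain ⟨x, rfl⟩ := Ideal.Quotient.mk_surjective x
    rw [Ideal.quotientMap_mk, Ideal.Quotient.eq_zero_iff_mem] at hx
    have h3 := hσm hx
    rwa [RingHom.mem_ker, ← RingHom.comp_apply, hσ] at h3
  · intro y
    obtain ⟨y, rfl⟩ := Ideal.Quotient.mk_surjective y
    obtain ⟨x, hx⟩ := exists_sub_mem_pow G hGm (by
      intro y
      obtain ⟨⟨z, s⟩, hzs⟩ := IsLocalization.surj q.primeCompl y
      obtain ⟨r, hr⟩ := hsurj z
      obtain ⟨t, ht⟩ := hsurj s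
      have hgt : g.hom t ∉ q := by
        intro h0
        apply s.2
        have := add_mem (hpp ht) h0
        simpa using this
      have ht' : t ∉ p := fun h0 => hgt (hpp (Ideal.mem_map_of_mem _ h0))
      have hu : IsUnit (i t) := IsLocalization.map_units Rp (⟨t, ht'⟩ : p.primeCompl)
      obtain ⟨u, hu⟩ := hu
      refine ⟨i r * ↑u⁻¹, ?_⟩
      have hjq : ∀ z ∈ q, j z ∈ maximalIdeal Rq := fun z hz =>
        (IsLocalization.AtPrime.to_map_mem_maximal_iff Rq q z).mpr hz
      have hju : IsUnit (j (g.hom t)) := IsLocalization.map_units Rq (⟨g.hom t, hgt⟩ : q.primeCompl)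
      have h4 : (y - G (i r * ↑u⁻¹)) * j (g.hom t) ∈ maximalIdeal Rq := by
        have h5 : G (↑u⁻¹ : Rp) * j (g.hom t) = 1 := by
          have : j (g.hom t) = G (i t) := by
            rw [← RingHom.comp_apply, ← hG, RingHom.comp_apply]
          rw [this, ← map_mul, ← hu, Units.inv_mul, map_one]
        have h6 : G (i r) = j (g.hom r) := by
          rw [← RingHom.comp_apply, hG, RingHom.comp_apply]
        have h7 : (y - G (i r * ↑u⁻¹)) * j (g.hom t) = j (z - g.hom r) - y * j (s - g.hom t) := by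
          rw [map_mul, sub_mul, mul_assoc, h5, mul_one, h6, map_sub, map_sub, mul_sub]
          have h8 : y * j s = j z := hzs
          rw [h8]; ring
        rw [h7]
        exact sub_mem (hjq _ (hpp hr)) (Ideal.mul_mem_left _ _ (hjq _ (hpp ht)))
      exact ((maximalIdeal.isMaximal Rq).isPrime.mem_or_mem h4).resolve_right
        (fun h5 => (mem_maximalIdeal _).mp h5 hju)) n y
    refine ⟨Ideal.Quotient.mk _ x, ?_⟩
    rw [Ideal.quotientMap_mk, eq_comm, Ideal.Quotient.eq]
    exact hx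

/-- The main statement. -/
theorem bijective_stalk_quotients (A : Type u) [CommRing A] [IsLocalRing A]
    (hm : (IsLocalRing.maximalIdeal A).FG) (X : Scheme.{u}) (f : X ⟶ Spec (CommRingCat.of A))
    (q : ↥(Curv2.bcCpl A f)) (hq : f.base ((Curv2.bcCplFst A f).base q) = IsLocalRing.closedPoint A) (n : ℕ) (hn : 1 ≤ n)
    (h : IsLocalRing.maximalIdeal (X.presheaf.stalk ((Curv2.bcCplFst A f).base q)) ^ n ≤
      (IsLocalRing.maximalIdeal ((Curv2.bcCpl A f).presheaf.stalk q) ^ n).comap ((Curv2.bcCplFst A f).stalkMap q).hom) :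
    Function.Bijective (Ideal.quotientMap (IsLocalRing.maximalIdeal ((Curv2.bcCpl A f).presheaf.stalk q) ^ n)
      ((Curv2.bcCplFst A f).stalkMap q).hom h) := by
  have haff := isAffineHom_bcCplFst A f
  obtain ⟨U, hU, hxU, -⟩ := exists_isAffineOpen_mem_and_subset (X := X) (U := ⊤) (x := Curv2.bcCplFst A f q) trivial
  have hV : IsAffineOpen (Curv2.bcCplFst A f ⁻¹ᵁ U) := hU.preimage _
  have hcomap := IsAffineOpen.comap_primeIdealOf_appLE (f := Curv2.bcCplFst A f) U hU (Curv2.bcCplFst A f ⁻¹ᵁ U) hV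
    le_rfl hxU
  have hsurj := exists_sub_mem_of_isPushout (isPushout_sections A f U hU) (maximalIdeal A)
    (exists_sub_mem A hm) _ (map_maximalIdeal_le A f U hU _ hxU hq)
  have hmm : (maximalIdeal (X.presheaf.stalk (Curv2.bcCplFst A f q))).map ((Curv2.bcCplFst A f).stalkMap q).hom =
      maximalIdeal ((Curv2.bcCpl A f).presheaf.stalk q) := by
    refine map_maximalIdeal_stalkMap (Curv2.bcCplFst A f) U hU _ hV le_rfl hxU ?_
    refine map_eq_of_surj _ _ _ ?_ hsurj
    exact congr($(hcomap).1)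
  refine bijective_of_isPushout (isPushout_sections A f U hU) (maximalIdeal A) (exists_sub_mem A hm) n
    (AdicCompletion.evalₐ (maximalIdeal A) n).toRingHom ?_
    (hU.primeIdealOf ⟨Curv2.bcCplFst A f q, hxU⟩).asIdeal (hV.primeIdealOf ⟨q, hxU⟩).asIdeal
    (map_maximalIdeal_le A f U hU _ hxU hq) (congr($(hcomap).1)) _ _
    (X.presheaf.germ U (Curv2.bcCplFst A f q) hxU).hom
    ((Curv2.bcCpl A f).presheaf.germ (Curv2.bcCplFst A f ⁻¹ᵁ U) q hxU).hom ?_ ?_ _ ?_ hmm (by omega) h
  · intro a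
    exact AdicCompletion.evalₐ_of (maximalIdeal A) n a
  · exact hU.isLocalization_stalk ⟨Curv2.bcCplFst A f q, hxU⟩
  · exact hV.isLocalization_stalk ⟨q, hxU⟩
  · rw [← CommRingCat.hom_comp, ← CommRingCat.hom_comp]
    congr 1
    refine (Scheme.Hom.germ_stalkMap (Curv2.bcCplFst A f) U q hxU).trans ?_
    simp [Scheme.Hom.appLE]

end K372.CplStalk
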