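import Groth.Agent.Resolve.K372.Contr
import Groth.Agent.BlowUp.K483.Local
import Groth.Agent.Smoothlim.Glue2

/-!
# Contractions can be constructed on a neighbourhood of the curve

* `comap_pt`: the reduced point restricts to the reduced point on an open subscheme.
* `exists_glue`: if an open neighbourhood `A` of the exceptional curve `E ⊂ X` has a contraction `A ⟶ B`, then so has
  `X`, and `A ⟶ B` is its restriction over an open subscheme `B`.
-/

set_option autoImplicit false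
universe u

open CategoryTheory CategoryTheory.Limits AlgebraicGeometry TopologicalSpace Opposite

namespace K372.GlueContr

open Groth.Agent Groth.Agent.Dix.PointIdeal Groth.Agent.Models.H69.Contr Groth.Agent.Divis.CartierBasic
open Groth.Agent.Smoothlim.Glue2

theorem comap_pt {B X : Scheme.{u}} (j : B ⟶ X) [IsOpenImmersion j] (y : B) (hy : IsClosed ({y} : Set B))
    (hy' : IsClosed ({j y} : Set X)) : (pt (j y) hy').comap j = pt y hy := by
  refine ext_stalkIdeal fun z => ?_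
  rw [Divis.CartierStalk.stalkIdeal_comap]
  by_cases hz : z = y
  · subst hz
    rw [stalkIdeal_pt, stalkIdeal_pt]
    have h1 : IsIso (j.stalkMap z) := inferInstance
    have h2 : Function.Bijective (j.stalkMap z).hom := (ConcreteCategory.isIso_iff_bijective (j.stalkMap z)).mp h1
    exact (IsLocalRing.map_maximalIdeal_of_surjective _ h2.2)
  · have h1 : j z ∉ (pt (j y) hy').support := by
      rw [mem_support_pt]
      exact fun h => hz (j.isOpenEmbedding.injective h)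
    have h2 : z ∉ (pt y hy).support := by
      rw [mem_support_pt]
      exact hz
    rw [mem_support_iff_stalkIdeal_ne_top, not_not] at h1 h2
    rw [h1, h2, Ideal.map_top]

theorem isBlowUp_opensRange {X X' A B : Scheme.{u}} {b : X ⟶ X'} {j : B ⟶ X'} [IsOpenImmersion j] {a : A ⟶ X}
    {b₁ : A ⟶ B} (sq : IsPullback a b₁ b j) {I : X'.IdealSheafData} (h : BlowUp.IsBlowUp b₁ (I.comap j)) :
    BlowUp.IsBlowUp (b ∣_ j.opensRange) (I.comap j.opensRange.ι) := by
  let e : j.opensRange.toScheme ≅ B := IsOpenImmersion.isoOfRangeEq j.opensRange.ι j (by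
    rw [Scheme.Opens.range_ι]; rfl)
  have he : e.hom ≫ j = j.opensRange.ι := IsOpenImmersion.isoOfRangeEq_hom_fac _ _ _
  have h1 := isPullback_morphismRestrict b j.opensRange
  have h2 : IsPullback (sq.lift (b ⁻¹ᵁ j.opensRange).ι ((b ∣_ j.opensRange) ≫ e.hom) (by
      rw [Category.assoc, he, morphismRestrict_ι])) (b ∣_ j.opensRange) b₁ e.hom := by
    refine IsPullback.of_right ?_ (sq.lift_snd _ _ _) sq
    rw [sq.lift_fst, he]
    exact h1.flip
  have h3 := Divis.BlowUpFormal.isBlowUp_of_isPullback h h2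
  rwa [← Scheme.IdealSheafData.comap_comp, he] at h3

/-- An open subscheme of the source is an open subscheme of the target if it is the preimage of an open over which
the morphism is an isomorphism. -/
theorem opensRange_comp {A B U : Scheme.{u}} (b : A ⟶ B) (V : B.Opens) [IsIso (b ∣_ V)] (k : U ⟶ A)
    [IsOpenImmersion k] (hk : Set.range k = b ⁻¹' (V : Set B)) :
    ∃ _ : IsOpenImmersion (k ≫ b), (k ≫ b).opensRange = V := by
  let e : U ≅ (b ⁻¹ᵁ V).toScheme := IsOpenImmersion.isoOfRangeEq k (b ⁻¹ᵁ V).ι (by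
    rw [hk, Scheme.Opens.range_ι]; rfl)
  have h1 : e.hom ≫ (b ⁻¹ᵁ V).ι = k := IsOpenImmersion.isoOfRangeEq_hom_fac _ _ _
  have h2 : k ≫ b = (e.hom ≫ (b ∣_ V)) ≫ V.ι := by
    rw [← h1, Category.assoc, Category.assoc, morphismRestrict_ι]
  have h3 : IsOpenImmersion (k ≫ b) := by
    rw [h2]; infer_instance
  refine ⟨h3, ?_⟩
  ext x
  change x ∈ Set.range (k ≫ b) ↔ x ∈ V
  have h4 : Function.Surjective (e.hom ≫ (b ∣_ V)) := (e.hom ≫ (b ∣_ V)).surjective
  constructor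
  · rintro ⟨u, rfl⟩
    have : k u ∈ Set.range k := ⟨u, rfl⟩
    rw [hk] at this
    exact this
  · intro hx
    obtain ⟨u, hu⟩ := h4 ⟨x, hx⟩
    refine ⟨u, ?_⟩
    rw [h2, Scheme.Hom.comp_apply, hu]
    rfl

/-- The contraction of an exceptional curve can be constructed on an open neighbourhood of the curve. -/
theorem exists_glue {E X : Scheme.{u}} [IsNoetherian X] (ι : E ⟶ X) [IsClosedImmersion ι]
    (hE : Models.IsExcCurve ι) {A B : Scheme.{u}} (a : A ⟶ X) [IsOpenImmersion a] (ι₁ : E ⟶ A) (hι : ι₁ ≫ a = ι)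
    (b₁ : A ⟶ B) (hb₁ : Models.IsContractionOf ι₁ b₁) :
    ∃ (X' : Scheme.{u}) (b : X ⟶ X') (j : B ⟶ X'), IsOpenImmersion j ∧ Models.IsContractionOf ι b ∧
      IsPullback a b₁ b j := by
  obtain ⟨hE1, hE2⟩ := Contr.isIntegral_of_isExcCurve hE
  have hι₁ : IsClosedImmersion ι₁ := by
    have : IsClosedImmersion (ι₁ ≫ a) := by rw [hι]; infer_instance
    exact IsClosedImmersion.of_comp ι₁ a
  obtain ⟨hN, hprop, y₁, hy₁, hrange, hreg, hdim, hbl⟩ := hb₁
  have hr : Set.range ι₁ = b₁ ⁻¹' {y₁} := range_eq (hy := hy₁) ι₁ hbl hreg hdim hE2 hrange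
  have hiso : IsIso (b₁ ∣_ compl y₁ hy₁) := isIso_compl y₁ hy₁ hbl
  -- the complement of `E`
  let C : X.Opens := ⟨(Set.range ι)ᶜ, ι.isClosedEmbedding.isClosed_range.isOpen_compl⟩
  have hcov : a.opensRange ⊔ C = ⊤ := by
    rw [eq_top_iff]
    intro x _
    by_cases hx : x ∈ Set.range ι
    · obtain ⟨e, rfl⟩ := hx
      refine Or.inl ⟨ι₁ e, ?_⟩
      rw [← Scheme.Hom.comp_apply, hι]
    · exact Or.inr hx
  have hC : ∀ x : X, x ∈ C ↔ x ∉ Set.range ι := fun x => Iff.rfl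
  have hk : Set.range (a ⁻¹ᵁ C).ι = b₁ ⁻¹' (compl y₁ hy₁ : Set B) := by
    rw [Scheme.Opens.range_ι]
    ext x
    change x ∈ a ⁻¹ᵁ C ↔ b₁ x ∉ ({y₁} : Set B)
    have h1 : b₁ x ∈ ({y₁} : Set B) ↔ x ∈ Set.range ι₁ := by rw [hr]; rfl
    rw [h1]
    change a x ∉ Set.range ι ↔ _
    refine not_congr ⟨?_, ?_⟩
    · rintro ⟨e, he⟩
      refine ⟨e, a.isOpenEmbedding.injective ?_⟩
      rw [← he, ← hι, Scheme.Hom.comp_apply]
    · rintro ⟨e, rfl⟩
      exact ⟨e, by rw [← hι, Scheme.Hom.comp_apply]⟩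
  obtain ⟨hi₁, hi₁r⟩ := opensRange_comp b₁ (compl y₁ hy₁) (a ⁻¹ᵁ C).ι hk
  have h' : IsGlue (a ⁻¹ᵁ C).ι (a ∣_ C) a C.ι :=
    ⟨(isPullback_morphismRestrict a C).flip, inferInstance, inferInstance, fun x => by
      have hx : x ∈ a.opensRange ⊔ C := hcov.ge trivial
      rw [Scheme.Opens.range_ι]
      exact hx⟩
  obtain ⟨X', j₁, j₂, h⟩ := exists_isGlue ((a ⁻¹ᵁ C).ι ≫ b₁) (a ∣_ C)
  have hj₁ := h.open₁
  have hj₂ := h.open₂
  obtain ⟨b, e₁, e₂⟩ := h'.exists_desc (b₁ ≫ j₁) j₂ (by rw [← Category.assoc]; exact h.isPullback.w)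
  have e₂' : C.ι ≫ b = 𝟙 _ ≫ j₂ := by rw [e₂, Category.id_comp]
  have sq₁ : IsPullback (a ⁻¹ᵁ C).ι (𝟙 _) b₁ ((a ⁻¹ᵁ C).ι ≫ b₁) := by
    refine (IsOpenImmersion.isPullback _ _ _ _ (by rw [Category.id_comp]) ?_).flip
    rw [hi₁r]
    ext x
    change x ∈ b₁ ⁻¹' (compl y₁ hy₁ : Set B) ↔ x ∈ Set.range (a ⁻¹ᵁ C).ι
    rw [hk]
  have sq₂ : IsPullback (a ∣_ C) (𝟙 _) (𝟙 _) (a ∣_ C) := IsPullback.of_vert_isIso ⟨by simp⟩
  have hp₁ : IsPullback a b₁ b j₁ := IsGlue.isPullback_of_isPullback h' h (𝟙 _) b₁ (𝟙 _) b sq₂ e₁ e₂'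
  have hp₂ : IsPullback C.ι (𝟙 _) b j₂ := IsGlue.isPullback_of_isPullback h'.swap h.swap (𝟙 _) (𝟙 _) b₁ b sq₁ e₂' e₁
  have hbp : IsProper b := IsGlue.of_isPullback h' h (𝟙 _) b₁ (𝟙 _) b @IsProper sq₁ sq₂ e₁ e₂' hprop inferInstance
  have hιb : ∀ e : E, b (ι e) = j₁ y₁ := by
    intro e
    have h1 : b₁ (ι₁ e) ∈ ({y₁} : Set B) := by rw [← hrange]; exact ⟨e, Scheme.Hom.comp_apply _ _ _⟩
    have h2 : b₁ (ι₁ e) = y₁ := h1
    rw [← hι, ← Scheme.Hom.comp_apply, Category.assoc, e₁, Scheme.Hom.comp_apply, Scheme.Hom.comp_apply, h2]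
  have hEne : Nonempty E := inferInstance
  have hy : IsClosed ({j₁ y₁} : Set X') := by
    have h1 : b '' (Set.range ι) = {j₁ y₁} := by
      ext z
      constructor
      · rintro ⟨_, ⟨e, rfl⟩, rfl⟩
        exact hιb e
      · rintro rfl
        obtain ⟨e⟩ := hEne
        exact ⟨ι e, ⟨e, rfl⟩, hιb e⟩
    rw [← h1]
    exact b.isClosedMap _ ι.isClosedEmbedding.isClosed_range
  have hnot : ∀ c, j₂ c ≠ j₁ y₁ := by
    intro c hc
    obtain ⟨u, hu, -⟩ := Scheme.exists_preimage_of_isPullback h.isPullback y₁ c hc.symm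
    have h1 : y₁ ∈ ((a ⁻¹ᵁ C).ι ≫ b₁).opensRange := ⟨u, hu⟩
    rw [hi₁r] at h1
    exact h1 rfl
  have hCc : CompactSpace C := by
    have : NoetherianSpace X := inferInstance
    exact isCompact_iff_compactSpace.mp (NoetherianSpace.isCompact (C : Set X))
  have hNX' : IsNoetherian X' := by
    have h1 : CompactSpace X' := h.compactSpace
    have h2 : IsLocallyNoetherian X' := by
      rw [isLocallyNoetherian_iff_openCover h.openCover]
      intro i
      cases i
      · exact inferInstanceAs (IsLocallyNoetherian C.toScheme)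
      · exact inferInstanceAs (IsLocallyNoetherian B)
    exact {}
  refine ⟨X', b, j₁, hj₁, ⟨hNX', hbp, j₁ y₁, hy, ?_, ?_, ?_, ?_⟩, hp₁⟩
  · ext z
    constructor
    · rintro ⟨e, rfl⟩
      exact (Scheme.Hom.comp_apply _ _ _).trans (hιb e)
    · rintro rfl
      obtain ⟨e⟩ := hEne
      exact ⟨e, (Scheme.Hom.comp_apply _ _ _).trans (hιb e)⟩
  · exact IsRegularLocalRing.of_ringEquiv (asIso (j₁.stalkMap y₁)).commRingCatIsoToRingEquiv.symm
  · rw [← hdim]
    exact ringKrullDim_eq_of_ringEquiv (asIso (j₁.stalkMap y₁)).commRingCatIsoToRingEquiv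
  · refine K483.Local.isBlowUp_of_local fun x => ?_
    rcases h.cover x with hx | hx
    · refine ⟨j₁.opensRange, hx, isBlowUp_opensRange hp₁ ?_⟩
      have h1 := comap_pt j₁ y₁ hy₁ hy
      change BlowUp.IsBlowUp b₁ ((pt (j₁ y₁) hy).comap j₁)
      rw [h1]
      exact hbl
    · refine ⟨j₂.opensRange, hx, isBlowUp_opensRange hp₂ ?_⟩
      have h1 : (pt (j₁ y₁) hy).comap j₂ = ⊤ := by
        refine ext_stalkIdeal fun z => ?_
        have h2 : j₂ z ∉ (pt (j₁ y₁) hy).support := by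
          rw [mem_support_pt]
          exact hnot z
        rw [mem_support_iff_stalkIdeal_ne_top, not_not] at h2
        rw [Divis.CartierStalk.stalkIdeal_comap, h2, Ideal.map_top, stalkIdeal_top]
      change BlowUp.IsBlowUp (𝟙 _) ((pt (j₁ y₁) hy).comap j₂)
      rw [h1]
      exact Divis.BlowUpFormal.isBlowUp_id Divis.EffCartier.isEff_top

end K372.GlueContr
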