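import Groth.Agent.Dix.MinusLift515
import Groth.Agent.Resolve.K372.GlueContr

/-!
# Exceptional curves and contractions are local around the curve

* `isExcCurve_of_comp`, `isExcCurve_comp`: `E ⊂ A ⊂ X`, `A` open in `X`: `E` is exceptional in `A` iff it is in `X`.
* `isContractionOf_of_isPullback`: restriction of a contraction to an open subscheme of the target.
-/

set_option autoImplicit false
universe u

open CategoryTheory CategoryTheory.Limits AlgebraicGeometry TopologicalSpace Opposite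

namespace K372.ExcLoc

open Groth.Agent Groth.Agent.Dix.PointIdeal Groth.Agent.Models.H69.Contr Groth.Agent.Divis.CartierBasic

variable {E A X : Scheme.{u}}

theorem isExcCurve_of_comp (j : A ⟶ X) [IsOpenImmersion j] (ι₁ : E ⟶ A) (ι : E ⟶ X) [IsClosedImmersion ι]
    (hι : ι₁ ≫ j = ι) (hE : Models.IsExcCurve ι) : Models.IsExcCurve ι₁ := by
  obtain ⟨h1, k, hk, e, ⟨h2⟩⟩ := hE
  have h3 := Dix.MinusLift515.eff_ker hι h1
  obtain ⟨h4⟩ := Dix.MinusLift515.nonempty_pullback_iso hι h1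
  exact ⟨h3, k, hk, e, ⟨((Scheme.Modules.pullbackComp e.hom ι₁).app _).symm ≪≫
    (Scheme.Modules.pullback e.hom).mapIso h4 ≪≫ (Scheme.Modules.pullbackComp e.hom ι).app _ ≪≫ h2⟩⟩

theorem isEff_ker_comp [IsLocallyNoetherian X] (j : A ⟶ X) [IsOpenImmersion j] (ι₁ : E ⟶ A) (ι : E ⟶ X)
    [IsClosedImmersion ι] (hι : ι₁ ≫ j = ι) (h : BlowUp.IsEffCartierIdeal ι₁.ker) :
    BlowUp.IsEffCartierIdeal ι.ker := by
  have hker := Dix.MinusLift515.ker_eq_comap hι
  refine isEffCartierIdeal_of_stalkIdeal _ fun x hx => ?_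
  have hx' : x ∈ Set.range ι := by
    have h1 : ((ι.ker.support : Set X)) = closure (Set.range ι) := Scheme.Hom.support_ker ι
    have h2 : x ∈ (ι.ker.support : Set X) := hx
    rw [h1, ι.isClosedEmbedding.isClosed_range.closure_eq] at h2
    exact h2
  obtain ⟨e, rfl⟩ := hx'
  have he : ι e = j (ι₁ e) := by rw [← hι, Scheme.Hom.comp_apply]
  rw [he]
  have hA : IsLocallyNoetherian A := LocallyOfFiniteType.isLocallyNoetherian j
  obtain ⟨g, hg, h1⟩ := (isEffCartierIdeal_iff_stalkIdeal ι₁.ker).1 h (ι₁ e)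
  rw [hker, Divis.CartierStalk.stalkIdeal_comap] at h1
  let φ := (asIso (j.stalkMap (ι₁ e))).commRingCatIsoToRingEquiv
  let ψ : A.presheaf.stalk (ι₁ e) →+* X.presheaf.stalk (j (ι₁ e)) := φ.symm
  have h2 : (stalkIdeal ι.ker (j (ι₁ e))).map (φ : _ →+* _) = Ideal.span {g} := h1
  refine ⟨φ.symm g, ?_, ?_⟩
  · refine mem_nonZeroDivisors_of_injective (f := φ) φ.injective ?_
    rw [RingEquiv.apply_symm_apply]
    exact hg
  · have h3 := congrArg (Ideal.map ψ) h2
    rw [Ideal.map_map, Ideal.map_span, Set.image_singleton] at h3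
    have h4 : ψ.comp (φ : _ →+* _) = RingHom.id _ := by
      ext z
      exact φ.symm_apply_apply z
    rw [h4, Ideal.map_id] at h3
    exact h3

theorem isExcCurve_comp [IsLocallyNoetherian X] (j : A ⟶ X) [IsOpenImmersion j] (ι₁ : E ⟶ A) (ι : E ⟶ X)
    [IsClosedImmersion ι] (hι : ι₁ ≫ j = ι) (hE : Models.IsExcCurve ι₁) : Models.IsExcCurve ι := by
  obtain ⟨h1, k, hk, e, ⟨h2⟩⟩ := hE
  have h3 := isEff_ker_comp j ι₁ ι hι h1
  obtain ⟨h4⟩ := Dix.MinusLift515.nonempty_pullback_iso hι h3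
  exact ⟨h3, k, hk, e, ⟨((Scheme.Modules.pullbackComp e.hom ι).app _).symm ≪≫
    (Scheme.Modules.pullback e.hom).mapIso h4.symm ≪≫ (Scheme.Modules.pullbackComp e.hom ι₁).app _ ≪≫ h2⟩⟩

/-- The restriction of a contraction over an open subscheme of the target. -/
theorem isContractionOf_of_isPullback [Nonempty E] {X' B : Scheme.{u}} {ι : E ⟶ X} {b : X ⟶ X'}
    (hb : Models.IsContractionOf ι b) {j : A ⟶ X} {b₁ : A ⟶ B} {k : B ⟶ X'} [IsOpenImmersion k]
    (sq : IsPullback j b₁ b k) {ι₁ : E ⟶ A} (hι : ι₁ ≫ j = ι) : Models.IsContractionOf ι₁ b₁ := by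
  obtain ⟨hN, hprop, y, hy, hrange, hreg, hdim, hbl⟩ := hb
  have hmem : ∀ e : E, b (ι e) = y := fun e => by
    have h1 : (ι ≫ b) e ∈ ({y} : Set X') := by rw [← hrange]; exact ⟨e, rfl⟩
    rw [Scheme.Hom.comp_apply] at h1
    exact h1
  have hmem' : ∀ e : E, k (b₁ (ι₁ e)) = y := fun e => by
    rw [← hmem e, ← hι, Scheme.Hom.comp_apply, ← Scheme.Hom.comp_apply, ← sq.w, Scheme.Hom.comp_apply]
  obtain ⟨e₀⟩ : Nonempty E := inferInstance
  obtain ⟨y₁, hy₁⟩ : ∃ y₁, k y₁ = y := ⟨_, hmem' e₀⟩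
  subst hy₁
  have hcl : IsClosed ({y₁} : Set B) := by
    have h1 : ({y₁} : Set B) = k ⁻¹' {k y₁} := by
      ext z
      exact (k.isOpenEmbedding.injective.eq_iff).symm
    rw [h1]
    exact hy.preimage k.continuous
  have hBN : IsNoetherian B := by
    have h1 : IsLocallyNoetherian B := LocallyOfFiniteType.isLocallyNoetherian k
    have h2 : NoetherianSpace X' := inferInstance
    have h3 : NoetherianSpace B := k.isOpenEmbedding.isInducing.noetherianSpace
    exact {}
  have hp : IsProper b₁ := MorphismProperty.of_isPullback (P := @IsProper) sq hprop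
  let φ := (asIso (k.stalkMap y₁)).commRingCatIsoToRingEquiv
  refine ⟨hBN, hp, y₁, hcl, ?_, ?_, ?_, ?_⟩
  · ext z
    constructor
    · rintro ⟨e, rfl⟩
      refine k.isOpenEmbedding.injective ?_
      rw [← hmem' e]
      exact congrArg k (Scheme.Hom.comp_apply _ _ _)
    · rintro rfl
      refine ⟨e₀, (Scheme.Hom.comp_apply _ _ _).trans (k.isOpenEmbedding.injective (hmem' e₀))⟩
  · exact IsRegularLocalRing.of_ringEquiv φ
  · rw [← hdim]
    exact (ringKrullDim_eq_of_ringEquiv φ).symm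
  · have h1 := Divis.BlowUpFormal.isBlowUp_of_isPullback hbl sq
    have h2 : (Scheme.IdealSheafData.vanishingIdeal ⟨{k y₁}, hy⟩).comap k = pt y₁ hcl :=
      GlueContr.comap_pt k y₁ hcl hy
    rw [h2] at h1
    exact h1

end K372.ExcLoc
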