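import Groth.Agent.S0024
import Groth.Agent.S4711
import Groth.Agent.Sga5.ProjSmooth
import Groth.Agent.Ega3B.ProjProper
import Groth.Agent.Resolve.K372.GlueContr
import Mathlib.RingTheory.Jacobson.Ring
import Mathlib.AlgebraicGeometry.ZariskisMainTheorem
import Mathlib.AlgebraicGeometry.Morphisms.FinitePresentation

/-!
# Exceptional curves are proper over the base, locally on the base

* `isProper_of_closed`: `P^1_k ⟶ Spec R` of finite type with image one closed point is proper.
* `exists_affine`: `f : X ⟶ S` of finite type, `S` Noetherian, `E ⊂ X` quasi-compact closed with image a point `s`: `s` is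
  a closed point of an affine open neighbourhood.
-/

set_option autoImplicit false
universe u

open CategoryTheory CategoryTheory.Limits AlgebraicGeometry TopologicalSpace Opposite

namespace K372.ExcProper

open Groth.Agent

/-- Morphisms from the projective line to an affine scheme factor through the base. -/
theorem exists_fac {k : Type u} [Field k] {R : Type u} [CommRing R]
    (φ : CohB1.ProjSpace 1 k ⟶ Spec (CommRingCat.of R)) :
    ∃ ψ : R →+* k, φ = CohB1.ProjSpace.toSpec 1 k ≫ Spec.map (CommRingCat.ofHom ψ) := by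
  have h0 : IsIso (CohB1.ProjSpace.toSpec 1 k).appTop := Groth.Agent.S0024.result 1 k
  let P := CohB1.ProjSpace 1 k
  let ψ : CommRingCat.of R ⟶ CommRingCat.of k := (Scheme.ΓSpecIso (CommRingCat.of R)).inv ≫ φ.appTop ≫
    inv (CohB1.ProjSpace.toSpec 1 k).appTop ≫ (Scheme.ΓSpecIso (CommRingCat.of k)).hom
  refine ⟨ψ.hom, ?_⟩
  have h1 : CommRingCat.ofHom ψ.hom = ψ := rfl
  rw [h1]
  refine ext_of_isAffine ?_
  have h2 := Scheme.ΓSpecIso_naturality ψ
  have h3 : (Spec.map ψ).appTop = (Scheme.ΓSpecIso (CommRingCat.of R)).hom ≫ ψ ≫ (Scheme.ΓSpecIso (CommRingCat.of k)).inv := by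
    rw [← Category.assoc, Iso.eq_comp_inv, h2]
  rw [Scheme.Hom.comp_appTop, h3]
  simp [ψ]

/-- A morphism of finite type from the projective line over a field to an affine scheme with image a closed point is
proper. -/
theorem isProper_of_closed {k : Type u} [Field k] {R : Type u} [CommRing R]
    (φ : CohB1.ProjSpace 1 k ⟶ Spec (CommRingCat.of R)) [LocallyOfFiniteType φ] (s : Spec (CommRingCat.of R))
    (hs : IsClosed ({s} : Set (Spec (CommRingCat.of R)))) (hφ : ∀ x, φ x = s) : IsProper φ := by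
  obtain ⟨ψ, rfl⟩ := exists_fac φ
  have hp : IsProper (CohB1.ProjSpace.toSpec 1 k) := Groth.Agent.Ega3B.ProjProper.isProper_toSpec 1 k
  have hft : ((MvPolynomial.C : k →+* MvPolynomial (Fin 1) k).comp ψ).FiniteType := by
    have h1 : LocallyOfFiniteType (Groth.Agent.Sga5.ProjSmooth.chart 1 k 0 ≫ CohB1.ProjSpace.toSpec 1 k ≫
        Spec.map (CommRingCat.ofHom ψ)) := inferInstance
    rw [Groth.Agent.Sga5.ProjSmooth.chart_toSpec_assoc, ← Spec.map_comp] at h1
    exact (HasRingHomProperty.Spec_iff (P := @LocallyOfFiniteType)).1 h1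
  have hψ : ψ.FiniteType := by
    have h1 : ψ = (MvPolynomial.eval₂Hom (RingHom.id k) (fun _ : Fin 1 => (0 : k))).comp
        ((MvPolynomial.C : k →+* MvPolynomial (Fin 1) k).comp ψ) := by
      ext r
      simp
    rw [h1]
    refine RingHom.FiniteType.comp_surjective hft fun c => ⟨MvPolynomial.C c, by simp⟩
  obtain ⟨x⟩ : Nonempty (CohB1.ProjSpace 1 k) := inferInstance
  have hmax : (RingHom.ker ψ).IsMaximal := by
    have h1 : s.asIdeal.IsMaximal := (PrimeSpectrum.isClosed_singleton_iff_isMaximal s).1 hs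
    have h2 : RingHom.ker ψ = s.asIdeal := by
      rw [← hφ x, Scheme.Hom.comp_apply]
      have h3 : CohB1.ProjSpace.toSpec 1 k x = (⊥ : PrimeSpectrum k) := Subsingleton.elim _ _
      rw [h3]
      exact RingHom.ker_eq_comap_bot ψ
    rwa [h2]
  have hfin : ψ.Finite := by
    let : Field (R ⧸ RingHom.ker ψ) := Ideal.Quotient.field _
    let ψ' : (R ⧸ RingHom.ker ψ) →+* k := RingHom.kerLift ψ
    have h1 : ψ = ψ'.comp (Ideal.Quotient.mk (RingHom.ker ψ)) := by
      ext r
      rfl
    have h2 : ψ'.FiniteType := by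
      rw [h1] at hψ
      exact RingHom.FiniteType.of_comp_finiteType hψ
    have h3 : ψ'.Finite := by
      let _ := ψ'.toAlgebra
      have : Algebra.FiniteType (R ⧸ RingHom.ker ψ) k := h2
      exact finite_of_finite_type_of_isJacobsonRing _ _
    rw [h1]
    exact h3.comp (RingHom.Finite.of_surjective _ Ideal.Quotient.mk_surjective)
  have h1 : IsFinite (Spec.map (CommRingCat.ofHom ψ)) := by
    rw [IsFinite.SpecMap_iff]
    exact hfin
  infer_instance

theorem exists_affine {E X S : Scheme.{u}} [IsNoetherian S] (f : X ⟶ S) [LocallyOfFiniteType f] [QuasiCompact f]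
    (ι : E ⟶ X) [IsClosedImmersion ι] (s : S) (hs : Set.range (ι ≫ f) = {s}) :
    ∃ U : S.Opens, IsAffineOpen U ∧ s ∈ U ∧ ∀ z ∈ U, s ⤳ z → z = s := by
  have h1 : LocallyOfFinitePresentation (ι ≫ f) := inferInstance
  have h2 : Topology.IsLocallyConstructible (Set.range (ι ≫ f)) := by
    rw [← Set.image_univ]
    exact (ι ≫ f).isLocallyConstructible_image Topology.IsConstructible.univ.isLocallyConstructible
  rw [hs] at h2
  obtain ⟨x, hx, hlc⟩ := Groth.Agent.S4711.result S {s} h2 (Set.singleton_nonempty s)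
  obtain rfl : x = s := hx
  obtain ⟨O, C, hO, hC, he⟩ := hlc
  have hx' : x ∈ O ∩ C := by rw [← he]; rfl
  obtain ⟨_, ⟨U, hU, rfl⟩, hxU, hUO⟩ := S.isBasis_affineOpens.exists_subset_of_mem_open hx'.1 hO
  refine ⟨U, hU, hxU, fun z hz hxz => ?_⟩
  have h3 : z ∈ O ∩ C := ⟨hUO hz, hxz.mem_closed hC hx'.2⟩
  rw [← he] at h3
  exact h3

end K372.ExcProper
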