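import Groth.Agent.Resolve.K372.ExcLoc
import Groth.Agent.Ega2.AmpleVery
import Groth.Agent.Mor.K386.HQP
import Groth.Agent.Ega2.RelAmp
import Groth.Agent.Ega2.AmpleAff
import Groth.Agent.Variety.K434.ZTwist
import Groth.Agent.S7315

/-!
# Contractions of quasi-projective schemes over a Noetherian ring

* `pull_idealMod`, `mk_inverse`: the class of `O(E)` restricts to the class of `O(E)`.
* `exists_local`: `X` separated of finite type over `Spec R`, `L` ample, `E` proper over `Spec R`: a contraction `b` and an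
  ample `L'` with `b^* L' = L^d (nE)`, `d > 0`.
-/

set_option autoImplicit false
universe u

open CategoryTheory CategoryTheory.Limits AlgebraicGeometry TopologicalSpace Opposite

namespace K372.LocQuasi

open Groth.Agent Groth.Agent.Grpsch.PicGrp Groth.Agent.Fdesc.LocGen Groth.Agent.Ega2.Ample

section Pic

variable {E A X : Scheme.{u}}

theorem pull_idealMod (j : A ⟶ X) [IsOpenImmersion j] (ι₁ : E ⟶ A) (ι : E ⟶ X) [IsClosedImmersion ι]
    (hι : ι₁ ≫ j = ι) (heff : BlowUp.IsEffCartierIdeal ι.ker) (h : PicF.IsInvertible (ClSub.idealMod ι.ker))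
    (h₁ : PicF.IsInvertible (ClSub.idealMod ι₁.ker)) :
    pull j (mk (ClSub.idealMod ι.ker) h) = mk (ClSub.idealMod ι₁.ker) h₁ := by
  have h2 := Dix.MinusLift515.ker_eq_comap hι
  obtain ⟨e⟩ := Dix.IdealModCartier.pullback_idealMod j heff (by
    rw [← h2]; exact Dix.MinusLift515.eff_ker hι heff)
  rw [pull_mk]
  exact mk_congr (e ≪≫ eqToIso (by rw [h2]))

theorem mk_inverse {M I : X.Modules} (h : ClSub.IsInverseOf M I) (hM : PicF.IsInvertible M)
    (hI : PicF.IsInvertible I) : mk M hM = (mk I hI)⁻¹ := by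
  rw [eq_inv_iff_mul_eq_one, mk_mul_mk, mk_eq_one_iff]
  exact h

theorem pull_inverse (j : A ⟶ X) [IsOpenImmersion j] (ι₁ : E ⟶ A) (ι : E ⟶ X) [IsClosedImmersion ι]
    (hι : ι₁ ≫ j = ι) (heff : BlowUp.IsEffCartierIdeal ι.ker) {M : X.Modules}
    (hM : ClSub.IsInverseOf M (ClSub.idealMod ι.ker)) {M₁ : A.Modules}
    (hM₁ : ClSub.IsInverseOf M₁ (ClSub.idealMod ι₁.ker)) (h : PicF.IsInvertible M) (h₁ : PicF.IsInvertible M₁) :
    pull j (mk M h) = mk M₁ h₁ := by
  have h2 := K434.ZTwist.isInvertible_of_inverse hM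
  have h3 := K434.ZTwist.isInvertible_of_inverse hM₁
  rw [mk_inverse hM h h2.2, mk_inverse hM₁ h₁ h3.2, map_inv, pull_idealMod j ι₁ ι hι heff h2.2 h3.2]

end Pic

/-- The open subscheme of the target of a contraction whose preimage is a given open neighbourhood of the curve. -/
theorem exists_opens {E X X' A : Scheme.{u}} (ι : E ⟶ X) [IsClosedImmersion ι]
    (hE : Models.IsExcCurve ι) (b : X ⟶ X') (hb : Models.IsContractionOf ι b) (j : A ⟶ X) [IsOpenImmersion j]
    (hj : Set.range ι ⊆ Set.range j) : ∃ V : X'.Opens, b ⁻¹' (V : Set X') = Set.range j := by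
  obtain ⟨hE1, hE2⟩ := Contr.isIntegral_of_isExcCurve hE
  obtain ⟨hN, hprop, y, hy, hrange, hreg, hdim, hbl⟩ := hb
  have hr : Set.range ι = b ⁻¹' {y} := Groth.Agent.Models.H69.Contr.range_eq (hy := hy) ι hbl hreg hdim hE2 hrange
  have hcl : IsClosed (b '' (Set.range j)ᶜ) := b.isClosedMap _ j.isOpenEmbedding.isOpen_range.isClosed_compl
  refine ⟨⟨(b '' (Set.range j)ᶜ)ᶜ, hcl.isOpen_compl⟩, ?_⟩
  ext x
  constructor
  · intro hx
    by_contra hc
    exact hx ⟨x, hc, rfl⟩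
  · rintro hx ⟨c, hc, he⟩
    by_cases h1 : b c = y
    · exact hc (hj (hr.ge h1))
    · exact hc (Groth.Agent.Models.H69.Contr.eq_of_apply_eq (hy := hy) hbl c x h1 he ▸ hx)

theorem exists_restrict {X X' A : Scheme.{u}} (b : X ⟶ X') (j : A ⟶ X) [IsOpenImmersion j] (V : X'.Opens)
    (hV : b ⁻¹' (V : Set X') = Set.range j) : ∃ b₁ : A ⟶ V.toScheme, IsPullback j b₁ b V.ι := by
  let e : A ≅ (b ⁻¹ᵁ V).toScheme := IsOpenImmersion.isoOfRangeEq j (b ⁻¹ᵁ V).ι (by
    rw [Scheme.Opens.range_ι]; exact hV.symm)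
  have he : e.hom ≫ (b ⁻¹ᵁ V).ι = j := IsOpenImmersion.isoOfRangeEq_hom_fac _ _ _
  refine ⟨e.hom ≫ (b ∣_ V), ?_⟩
  have h1 : IsPullback e.hom (e.hom ≫ (b ∣_ V)) (b ∣_ V) (𝟙 _) := IsPullback.of_horiz_isIso ⟨by simp⟩
  have h2 := h1.paste_horiz (isPullback_morphismRestrict b V).flip
  rw [he, Category.id_comp] at h2
  exact h2

variable {R : Type u} [CommRing R] [IsNoetherianRing R]

/-- Contraction with an ample module, over a Noetherian ring. -/
theorem exists_local {E X : Scheme.{u}} (f : X ⟶ Spec (CommRingCat.of R)) [LocallyOfFiniteType f] [IsSeparated f]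
    (L : X.Modules) (hL : CohB1.IsAmple L) (ι : E ⟶ X) [IsClosedImmersion ι] (hE : Models.IsExcCurve ι)
    [IsProper (ι ≫ f)] (M : X.Modules) (hM : ClSub.IsInverseOf M (ClSub.idealMod ι.ker))
    (hL1 : PicF.IsInvertible L) (hM1 : PicF.IsInvertible M) :
    ∃ (X' : Scheme.{u}) (b : X ⟶ X') (g : X' ⟶ Spec (CommRingCat.of R)) (d n : ℕ) (L' : X'.Modules)
      (hL' : PicF.IsInvertible L'),
      Models.IsContractionOf ι b ∧ b ≫ g = f ∧ LocallyOfFiniteType g ∧ 0 < d ∧ CohB1.IsAmple L' ∧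
        pull b (mk L' hL') = mk L hL1 ^ d * mk M hM1 ^ n := by
  obtain ⟨n₀, hn₀⟩ := Ega2.AmpleVery.exists_forall_isRelVeryAmplePn f hL
  have hcX : CompactSpace X := hL.2.1
  have hqf : QuasiCompact f := inferInstance
  obtain ⟨r, i, hi, hif, ⟨e⟩⟩ := hn₀ (n₀ + 1) (Nat.le_succ _)
  change i ≫ CohB1.ProjSpaceOver.toBase r _ = f at hif
  have hpr : IsProper (CohB1.ProjSpaceOver.toBase r (Spec (CommRingCat.of R))) := inferInstance
  have hqi : QuasiCompact i := by
    have h2 : QuasiCompact (i ≫ CohB1.ProjSpaceOver.toBase r (Spec (CommRingCat.of R))) := by rwa [hif]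
    exact QuasiCompact.of_comp i (CohB1.ProjSpaceOver.toBase r (Spec (CommRingCat.of R)))
  -- the closure
  let Xb := i.image
  let j : X ⟶ Xb := i.toImage
  let p : Xb ⟶ _ := i.imageι
  have hj : IsOpenImmersion j := inferInstanceAs (IsOpenImmersion i.toImage)
  have hp : IsClosedImmersion p := inferInstanceAs (IsClosedImmersion i.imageι)
  have hjp : j ≫ p = i := i.toImage_imageι
  let fb : Xb ⟶ Spec (CommRingCat.of R) := p ≫ CohB1.ProjSpaceOver.toBase r _
  have hfb : j ≫ fb = f := by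
    change j ≫ p ≫ _ = f
    rw [← Category.assoc, hjp, hif]
  have hfbp : IsProper fb := inferInstanceAs (IsProper (p ≫ CohB1.ProjSpaceOver.toBase r _))
  have hO : PicF.IsInvertible (Twist.twistOver r (Spec (CommRingCat.of R)) 1) :=
    Ega2.VeryAmpleAmple.isInvertible_twistOver r (Spec (CommRingCat.of R)) 1
  let Lb : Xb.Modules := (Scheme.Modules.pullback p).obj (Twist.twistOver r _ 1)
  have hLb1 : PicF.IsInvertible Lb := isInvertible_pullback p hO
  have hLb : CohB1.IsAmple Lb := by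
    refine Ega2.RelAmp.isRelAmple_iff_isAmple.1 (K386.HQP.isRelAmple_of_isRelVeryAmplePn (f := fb) hLb1
      ⟨r, p, inferInstance, rfl, ⟨Iso.refl _⟩⟩)
  have hLj : pull j (mk Lb hLb1) = mk L hL1 ^ (n₀ + 1) := by
    have h1 : mk Lb hLb1 = pull p (mk _ hO) := (pull_mk p hO).symm
    rw [h1, ← pull_comp, hjp, pull_mk, ← mk_tensorPow hL1]
    exact mk_congr e.symm
  -- the curve
  have hNb : IsNoetherian Xb := by
    have h1 : IsLocallyNoetherian Xb := LocallyOfFiniteType.isLocallyNoetherian fb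
    have h2 : CompactSpace Xb := QuasiCompact.compactSpace_of_compactSpace fb
    exact {}
  have hclb : IsClosedImmersion (ι ≫ j) := by
    rw [IsClosedImmersion.iff_isProper_and_mono]
    refine ⟨?_, inferInstance⟩
    have h1 : IsProper ((ι ≫ j) ≫ fb) := by rw [Category.assoc, hfb]; infer_instance
    exact IsProper.of_comp (ι ≫ j) fb
  have hEb : Models.IsExcCurve (ι ≫ j) := ExcLoc.isExcCurve_comp j ι (ι ≫ j) rfl hE
  have hIinv : PicF.IsInvertible (ClSub.idealMod (ι ≫ j).ker) := Dix.IdealModCartier.isInvertible_idealMod hEb.1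
  obtain ⟨Mb, hMb'⟩ := K434.ZTwist.exists_isInverseOf hIinv
  have hMb : ClSub.IsInverseOf Mb (ClSub.idealMod (ι ≫ j).ker) := hMb'.map fun e' => Ega2.Tens.swap _ _ ≪≫ e'
  have hMb1 := (K434.ZTwist.isInvertible_of_inverse hMb).1
  have hMj : pull j (mk Mb hMb1) = mk M hM1 := pull_inverse j ι (ι ≫ j) rfl hEb.1 hMb hM hMb1 hM1
  obtain ⟨Xb', bb, gb, hbb, hbg, hgb, n, Lb', hLb', ⟨θ⟩⟩ :=
    Groth.Agent.S7315.result R fb Lb hLb (ι ≫ j) hEb Mb hMb
  obtain ⟨V, hV⟩ := exists_opens (ι ≫ j) hEb bb hbb j (by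
    rintro _ ⟨z, rfl⟩
    exact ⟨ι z, (Scheme.Hom.comp_apply _ _ _).symm⟩)
  obtain ⟨b, hsq⟩ := exists_restrict bb j V hV
  have hne : Nonempty E := (Contr.isIntegral_of_isExcCurve hE).1.nonempty
  have hb : Models.IsContractionOf ι b := ExcLoc.isContractionOf_of_isPullback hbb hsq rfl
  have hL'1 : PicF.IsInvertible ((Scheme.Modules.pullback V.ι).obj Lb') := isInvertible_pullback V.ι hLb'.1
  refine ⟨V.toScheme, b, V.ι ≫ gb, n₀ + 1, n, (Scheme.Modules.pullback V.ι).obj Lb', hL'1, hb, ?_, inferInstance,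
    Nat.succ_pos _, ?_, ?_⟩
  · rw [← Category.assoc, ← hsq.w, Category.assoc, hbg, hfb]
  · have hN : IsNoetherian Xb' := hbb.1
    have h1 : AmpleOn Lb' V := by
      have h2 : AmpleOn Lb' ⊤ := isAmple_iff_ampleOn_top.1 hLb'
      exact h2.mono le_top (NoetherianSpace.isCompact _)
    have h2 := (isAmple_restrict_ι_iff V).2 h1
    exact Ega2.Weight.isAmple_of_iso ((Scheme.Modules.restrictFunctorIsoPullback V.ι).app Lb') h2
  · have h1 : pull bb (mk Lb' hLb'.1) = mk Lb hLb1 * mk Mb hMb1 ^ n := by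
      rw [pull_mk, ← mk_tensorPow hMb1, mk_mul_mk]
      exact mk_congr θ
    rw [← pull_mk V.ι hLb'.1, ← pull_comp, ← hsq.w, pull_comp, h1, map_mul, map_pow, hLj, hMj]

end K372.LocQuasi
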