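import Groth.Agent.CurvesC.PowClosedModif

/-!
# Sections of the powers of an invertible ideal `I O_X` on a modification

* `hloc_of_isEff`: if `I O_X` is invertible, it is locally generated by one of the generators of `I`.
* `pow_comap`: `(I O_X)^n = I^n O_X`.
* `mem_pow_iff`: `Γ(X, m^n O_X) = m^n` for a modification of a normal local ring with `H^1(X, O_X) = 0` and `H^2 = 0`.
-/

set_option autoImplicit false
universe u

open CategoryTheory CategoryTheory.Limits AlgebraicGeometry TopologicalSpace Opposite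
open Groth.Agent Groth.Agent.CurvesC.ModDim Groth.Agent.CurvesC.KerSec Groth.Agent.CurvesC.ExtIdeal
open Groth.Agent.CurvesC.KoszulOne Groth.Agent.CurvesC.PowSections Groth.Agent.CurvesC.Modif
open Groth.Agent.CurvesC.PowClosedModif

namespace K372.PowSec

variable {A : Type u} [CommRing A] {X : Scheme.{u}} (f : X ⟶ Spec (CommRingCat.of A))

/-- An invertible extended ideal is locally generated by one of the generators. -/
theorem hloc_of_isEff [IsIntegral X] {r : ℕ} (a : Fin r → A) (hE : BlowUp.IsEffCartierIdeal (ext f (I a))) (x : X) :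
    ∃ (V : X.Opens) (i : Fin r), x ∈ V ∧ toSec f V (a i) ≠ 0 ∧
      ∀ j, ∃ c : Γ(X, V), toSec f V (a j) = c * toSec f V (a i) := by
  obtain ⟨U, hxU, t, ht, hI⟩ := hE x
  rw [ideal_ext, Ideal.map_span, ← Set.range_comp] at hI
  have h1 : ∀ j, ∃ c, c * t = toSec f U.1 (a j) := fun j => by
    rw [← Ideal.mem_span_singleton', ← hI]
    exact Ideal.subset_span ⟨j, rfl⟩
  choose c hc using h1
  have h2 : t ∈ Ideal.span (Set.range ((toSec f U.1) ∘ a)) := by
    rw [hI]; exact Ideal.mem_span_singleton_self t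
  obtain ⟨d, hd⟩ := (Ideal.mem_span_range_iff_exists_fun).mp h2
  have h3 : ∑ i, d i * c i = 1 := by
    have h4 : (∑ i, d i * c i) * t = 1 * t := by
      rw [Finset.sum_mul, one_mul]
      refine Eq.trans ?_ hd
      refine Finset.sum_congr rfl fun i _ => ?_
      rw [mul_assoc, hc i]
      rfl
    exact (mul_cancel_right_mem_nonZeroDivisors ht).mp h4
  have h5 : ∃ i, x ∈ X.basicOpen (c i) := by
    by_contra hcon
    push Not at hcon
    have h6 : ∀ i, c i ∈ pr x hxU := fun i => mem_pr.mpr (hcon i)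
    have h7 : (1 : Γ(X, U.1)) ∈ pr x hxU := by
      rw [← h3]
      exact Ideal.sum_mem _ fun i _ => Ideal.mul_mem_left _ _ (h6 i)
    rw [mem_pr] at h7
    apply h7
    rw [Scheme.basicOpen_of_isUnit X isUnit_one]
    exact hxU
  obtain ⟨i, hi⟩ := h5
  have hle : X.basicOpen (c i) ≤ U.1 := X.basicOpen_le (c i)
  have hu : IsUnit (rs hle (c i)) := RingedSpace.isUnit_res_basicOpen _ (c i)
  have hxne : Nonempty U.1 := ⟨⟨x, hxU⟩⟩
  have hVne : Nonempty (X.basicOpen (c i)) := ⟨⟨x, hi⟩⟩
  have hinj : Function.Injective (rs hle) := map_injective_of_isIntegral X (homOfLE hle)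
  refine ⟨X.basicOpen (c i), i, hi, ?_, fun j => ?_⟩
  · rw [← toSec_res f hle, ← hc i, map_mul]
    intro h0
    have h8 : rs hle t = 0 := by
      have := hu.mul_right_eq_zero.mp h0
      exact this
    have h9 : t = 0 := hinj (h8.trans (map_zero _).symm)
    exact nonZeroDivisors.ne_zero ht h9
  · obtain ⟨v, hv⟩ := hu
    refine ⟨rs hle (c j) * ↑(v⁻¹), ?_⟩
    rw [← toSec_res f hle, ← toSec_res f hle (a i), ← hc i, ← hc j, map_mul, map_mul, ← hv, mul_assoc,
      Units.inv_mul_cancel_left]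

/-- `(I O_X)^n = I^n O_X`. -/
theorem pow_comap (I : Ideal A) (n : ℕ) : (ext f I) ^ n = ext f (I ^ n) := by
  apply Scheme.IdealSheafData.ext
  funext U
  rw [ideal_ext, Scheme.IdealSheafData.ideal_pow, Pi.pow_apply, ideal_ext, Ideal.map_pow]

section

variable [IsDomain A] [IsLocalRing A] [IsIntegrallyClosed A] [IsNoetherianRing A]
  (hf : IsModif f)
  (hvan : ∀ M : X.Modules, Coh.IsCoh M → Subsingleton (Coh.HH X M 2))
  (hX : Subsingleton (Coh.HH X (Coh.structureModule X) 1))
  (hE : BlowUp.IsEffCartierIdeal ((Curv2.idealSheaf A (IsLocalRing.maximalIdeal A)).comap f)) (n : ℕ)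

include hf hvan hX

/-- `H^1(X, I^n O_X) = 0`. -/
theorem subsingleton_HH_pow (I₀ : Ideal A) :
    Subsingleton (Coh.HH X (ClSub.idealMod (((Curv2.idealSheaf A I₀).comap f) ^ n)) 1) := by
  obtain ⟨r, a, ha⟩ := Submodule.fg_iff_exists_fin_generating_family.mp (IsNoetherian.noetherian I₀)
  have ha : I a = I₀ := ha
  have := hf.integral
  have := hf.proper
  have hN : IsLocallyNoetherian X := LocallyOfFiniteType.isLocallyNoetherian f
  have h : Subsingleton (Coh.HH X (extMod f ((I a) ^ n)) 1) := subsingleton_HH_L f a hvan hX n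
  rw [ha] at h
  change Subsingleton (Coh.HH X (ClSub.idealMod ((ext f I₀) ^ n)) 1)
  rw [pow_comap]
  exact h

include hE

/-- `Γ(X, m^n O_X) = m^n`. -/
theorem mem_pow_iff (a : A) :
    (∀ U : X.affineOpens, toSec f U.1 a ∈
      (((Curv2.idealSheaf A (IsLocalRing.maximalIdeal A)).comap f) ^ n).ideal U) ↔ a ∈ IsLocalRing.maximalIdeal A ^ n := by
  obtain ⟨r, g, hg⟩ := Submodule.fg_iff_exists_fin_generating_family.mp
    (IsNoetherian.noetherian (IsLocalRing.maximalIdeal A))
  have hg : I g = IsLocalRing.maximalIdeal A := hg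
  have := hf.integral
  have := hf.proper
  have hN : IsLocallyNoetherian X := LocallyOfFiniteType.isLocallyNoetherian f
  change (∀ U : X.affineOpens, toSec f U.1 a ∈ ((ext f (IsLocalRing.maximalIdeal A)) ^ n).ideal U) ↔ _
  rw [pow_comap]
  simp only [ideal_ext]
  constructor
  · intro h
    rcases n with _ | n
    · rw [pow_zero, Ideal.one_eq_top]; trivial
    have hE' : BlowUp.IsEffCartierIdeal (ext f (I g)) := by rw [hg]; exact hE
    obtain ⟨y, hy⟩ := exists_val_top f ((I g) ^ (n + 1)) (toSec f ⊤ a) (fun x => by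
      obtain ⟨_, ⟨V, hV, rfl⟩, hxV, -⟩ := X.isBasis_affineOpens.exists_subset_of_mem_open (Set.mem_univ x) isOpen_univ
      refine ⟨⟨V, hV⟩, hxV, ?_⟩
      rw [toSec_res, hg]
      exact h ⟨V, hV⟩)
    obtain ⟨t, ht, hst⟩ := exists_mem_pow f g hvan hX (hloc_of_isEff f g hE')
      (exists_mem_maximalIdeal f g hf hg) n y
    have h3 : a = t := by
      apply hf.bijective_toSec_top.1
      rw [← hst, ← hy]
    rw [h3, ← hg]
    exact ht
  · intro h U
    exact Ideal.mem_map_of_mem _ h

end

end K372.PowSec
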