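import Groth.Agent.CurvesC.ModVanish
import Groth.Agent.Flat2F.FtSub
import Groth.Agent.CohqA.DirectSum
import Groth.Agent.CohqB.HSeqMod
import Groth.Agent.CohqB.QC4
import Groth.Agent.CohqB.QC7
import Groth.Agent.PerfA.QCohSerre
import Groth.Prelude.Def_Curv2

/-!
# Cohomology of quasi-coherent modules on modifications of two-dimensional local domains

* `subsingleton_HH_of_coh`: on a Noetherian scheme, vanishing of `H^p` on coherent modules implies vanishing on
  quasi-coherent modules.
* `subsingleton_HH`: `H^p(X, F) = 0` for `p ≥ 2` and `F` quasi-coherent, `X` a modification of the spectrum of a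
  Noetherian local domain of dimension two.
* `hmap_surjective`, `subsingleton_of_epi`, `subsingleton_of_gg`: `H^1` is right exact; if `H^1(X, O_X) = 0` then
  `H^1(X, F) = 0` for every globally generated quasi-coherent `F`.
-/

set_option autoImplicit false
universe u

open CategoryTheory CategoryTheory.Limits AlgebraicGeometry
open Groth.Agent Groth.Agent.CohqB.HSeqMod

namespace K372.QCohVan

/-- Vanishing of `H^p` on coherent modules implies vanishing on quasi-coherent modules. -/
theorem subsingleton_HH_of_coh {X : Scheme.{u}} [CompactSpace X] [QuasiSeparatedSpace X] (p : ℕ)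
    (h : ∀ M : X.Modules, Coh.IsCoh M → Subsingleton (Coh.HH X M p)) (F : X.Modules) (hF : Coh.IsQCoh F) :
    Subsingleton (Coh.HH X F p) := by
  rw [subsingleton_iff_forall_eq 0]
  intro x
  obtain ⟨G, i, y, -, hG, hG', rfl⟩ := Flat2F.FtSub.exists_ft_sub hF p x
  have h1 := h G ⟨hG, hG'⟩
  rw [Subsingleton.elim y 0, map_zero]

/-- If `H^{p+1}` vanishes on coherent modules then `H^p` is right exact on quasi-coherent modules. -/
theorem hmap_surjective_of_coh {X : Scheme.{u}} [CompactSpace X] [QuasiSeparatedSpace X] (p : ℕ)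
    (h : ∀ M : X.Modules, Coh.IsCoh M → Subsingleton (Coh.HH X M (p + 1))) {G F : X.Modules} (hG : Coh.IsQCoh G)
    (hF : Coh.IsQCoh F) (e : G ⟶ F) [Epi e] : Function.Surjective (hmap e p) := by
  let S : ShortComplex X.Modules := ShortComplex.mk (kernel.ι e) e (kernel.condition e)
  have hS : S.ShortExact := { exact := ShortComplex.exact_kernel e }
  have hK : Coh.IsQCoh (kernel e) := Groth.Agent.CohqB.QC4.isQuasicoherent_kernel e hG hF
  have h2 : Subsingleton (Coh.HH X (kernel e) (p + 1)) := subsingleton_HH_of_coh (p + 1) h _ hK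
  intro x
  exact exact₃ hS p x (@Subsingleton.elim _ h2 _ _)

/-- If `H^{p+1}` vanishes on coherent modules and `H^p(X, O) = 0` then `H^p(X, F) = 0` for every globally generated
quasi-coherent `F`. -/
theorem subsingleton_of_gg_of_coh {X : Scheme.{u}} [CompactSpace X] [QuasiSeparatedSpace X] (p : ℕ)
    (h : ∀ M : X.Modules, Coh.IsCoh M → Subsingleton (Coh.HH X M (p + 1)))
    (h0 : Subsingleton (Coh.HH X (Coh.structureModule X) p)) {F : X.Modules} (hF : Coh.IsQCoh F)
    (hgg : Curv2.IsGloballyGenerated F) : Subsingleton (Coh.HH X F p) := by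
  obtain ⟨ι, e, he⟩ := hgg
  have h1 : Coh.IsQCoh (SheafOfModules.free ι : X.Modules) :=
    Groth.Agent.CohqB.QC7.isQCoh_coproduct _ fun _ => Groth.Agent.PerfA.QCohSerre.isQCoh_unit X
  have h2 : Subsingleton (Coh.HH X (SheafOfModules.free ι : X.Modules) p) :=
    Groth.Agent.CohqA.DirectSum.subsingleton_coproduct (fun _ : ι => Coh.structureModule X) p fun _ => h0
  have := he
  exact (@hmap_surjective_of_coh X _ _ p h _ _ h1 hF e he).subsingleton

section

variable {A : Type u} [CommRing A] [IsDomain A] [IsLocalRing A] [IsNoetherianRing A]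
  (hdim : ringKrullDim A = 2) {X : Scheme.{u}} [IsIntegral X]
  (f : X ⟶ Spec (CommRingCat.of A)) [IsProper f]
  (hbir : ∃ U : (Spec (CommRingCat.of A)).Opens, (U : Set (Spec (CommRingCat.of A))).Nonempty ∧ IsIso (f ∣_ U))

include hdim hbir

theorem coh_vanish (p : ℕ) (hp : 2 ≤ p) (M : X.Modules) (hM : Coh.IsCoh M) : Subsingleton (Coh.HH X M p) := by
  obtain ⟨U, hU, hU'⟩ := hbir
  exact CurvesC.ModVanish.subsingleton_HH hdim f U hU M hM p hp

/-- `H^p(X, F) = 0` for `p ≥ 2` and `F` quasi-coherent. -/
theorem subsingleton_HH (F : X.Modules) (hF : Coh.IsQCoh F) (p : ℕ) (hp : 2 ≤ p) : Subsingleton (Coh.HH X F p) := by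
  have : CompactSpace X := QuasiCompact.compactSpace_of_compactSpace f
  have : QuasiSeparatedSpace X := by
    have : X.IsSeparated := ⟨by
      rw [← terminal.comp_from f]
      infer_instance⟩
    infer_instance
  exact subsingleton_HH_of_coh p (coh_vanish hdim f hbir p hp) F hF

/-- `H^1` is right exact on quasi-coherent modules. -/
theorem hmap_surjective {G F : X.Modules} (hG : Coh.IsQCoh G) (hF : Coh.IsQCoh F) (e : G ⟶ F) [Epi e] :
    Function.Surjective (hmap e 1) := by
  have : CompactSpace X := QuasiCompact.compactSpace_of_compactSpace f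
  have : QuasiSeparatedSpace X := by
    have : X.IsSeparated := ⟨by
      rw [← terminal.comp_from f]
      infer_instance⟩
    infer_instance
  exact hmap_surjective_of_coh 1 (coh_vanish hdim f hbir 2 le_rfl) hG hF e

theorem subsingleton_of_epi {G F : X.Modules} (hG : Coh.IsQCoh G) (hF : Coh.IsQCoh F) (e : G ⟶ F) [Epi e]
    (h : Subsingleton (Coh.HH X G 1)) : Subsingleton (Coh.HH X F 1) :=
  (hmap_surjective hdim f hbir hG hF e).subsingleton

/-- If `H^1(X, O_X) = 0` then `H^1(X, F) = 0` for every globally generated quasi-coherent `F`. -/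
theorem subsingleton_of_gg (h0 : Subsingleton (Coh.HH X (Coh.structureModule X) 1)) {F : X.Modules}
    (hF : Coh.IsQCoh F) (hgg : Curv2.IsGloballyGenerated F) : Subsingleton (Coh.HH X F 1) := by
  have : CompactSpace X := QuasiCompact.compactSpace_of_compactSpace f
  have : QuasiSeparatedSpace X := by
    have : X.IsSeparated := ⟨by
      rw [← terminal.comp_from f]
      infer_instance⟩
    infer_instance
  exact subsingleton_of_gg_of_coh 1 (coh_vanish hdim f hbir 2 le_rfl) h0 hF hgg

end

end K372.QCohVan
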