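import Groth.Agent.Resolve.K372.LocQuasi
import Groth.Agent.Resolve.K372.AmpDesc
import Groth.Agent.Resolve.K372.ExcProper
import Groth.Agent.Sga2lef.H83.Frame
import Groth.Agent.S9691
import Groth.Agent.EGA2.K34.RelAmpInv
import Groth.Prelude.Def_RelProj

/-!
# Contractions of quasi-projective schemes over a Noetherian scheme

* `nv_sec`: the canonical section of `O(D)` does not vanish exactly outside the support of `D`.
* `exists_contr`: `b : X ⟶ X'` with `L'` on `X'`, `b^* L' = L^d (nE)`, ample over an affine neighbourhood of the image.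
* `main`, `exists_contraction_quasiProjective`: the contraction of a quasi-projective scheme is quasi-projective.
-/

set_option autoImplicit false
universe u

open CategoryTheory CategoryTheory.Limits AlgebraicGeometry TopologicalSpace Opposite

namespace K372.QPContr

open Groth.Agent Groth.Agent.Grpsch.PicGrp Groth.Agent.Fdesc.LocGen Groth.Agent.Ega2.Ample Groth.Agent.Ega2.Nv
  Groth.Agent.Sga2lef.H83.Frame Groth.Agent.Ega2.ExtCoeff

theorem nv_sec {X : Scheme.{u}} {L : X.Modules} {D : X.IdealSheafData} {σ : Coh.structureModule X ⟶ L}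
    (h : HasFrame D σ) (x : X) : x ∈ nv L (sec σ ⊤) ↔ x ∉ D.support := by
  obtain ⟨V, e, f, hxV, -, hf⟩ := h ⊤ x trivial
  have h1 := nv_inf_of_eq_smul (sec σ ⊤) (le_top : V.1 ≤ ⊤) hf.gen f (by rw [res_sec]; exact hf.eq)
  have h2 : x ∈ nv L (sec σ ⊤) ↔ x ∈ X.basicOpen f := by
    rw [← h1]
    exact ⟨fun h => ⟨hxV, h⟩, fun h => h.2⟩
  rw [h2, Scheme.IdealSheafData.mem_support_iff_of_mem hxV, hf.ideal_eq, Scheme.zeroLocus_span,
    Scheme.zeroLocus_singleton]
  exact (Set.notMem_compl_iff).symm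

theorem isProper_of_excCurve {R : Type u} [CommRing R] {E A : Scheme.{u}} (φ : A ⟶ Spec (CommRingCat.of R))
    [LocallyOfFiniteType φ] (ι : E ⟶ A) [IsClosedImmersion ι] (hE : Models.IsExcCurve ι)
    (s : Spec (CommRingCat.of R)) (hcl : IsClosed ({s} : Set (Spec (CommRingCat.of R))))
    (hs : ∀ e, φ (ι e) = s) : IsProper (ι ≫ φ) := by
  obtain ⟨-, k, hk, e, -⟩ := hE
  have h1 : IsProper (e.hom ≫ ι ≫ φ) := ExcProper.isProper_of_closed (e.hom ≫ ι ≫ φ) s hcl fun x => by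
    rw [Scheme.Hom.comp_apply, Scheme.Hom.comp_apply]
    exact hs _
  have h2 : ι ≫ φ = e.inv ≫ e.hom ≫ ι ≫ φ := by simp
  rw [h2]
  infer_instance

theorem isClosed_singleton_opens {S : Scheme.{u}} {U : S.Opens} {s : S} (hs : s ∈ U) (h : ∀ z ∈ U, s ⤳ z → z = s) :
    IsClosed ({(⟨s, hs⟩ : U)} : Set U.toScheme) := by
  refine isClosed_of_closure_subset fun z hz => ?_
  have h1 : (⟨s, hs⟩ : U) ⤳ z := specializes_iff_mem_closure.2 hz
  have h2 : s ⤳ z.1 := h1.map continuous_subtype_val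
  exact Subtype.ext (h z.1 z.2 h2)

theorem pull_restrict {A X : Scheme.{u}} (a : A ⟶ X) [IsOpenImmersion a] {L : X.Modules} (h : PicF.IsInvertible L)
    (h' : PicF.IsInvertible (L.restrict a)) : pull a (mk L h) = mk (L.restrict a) h' := by
  rw [pull_mk]
  exact mk_congr ((Scheme.Modules.restrictFunctorIsoPullback a).app L).symm

theorem isInvertible_restrict {A X : Scheme.{u}} (a : A ⟶ X) [IsOpenImmersion a] {L : X.Modules}
    (h : PicF.IsInvertible L) : PicF.IsInvertible (L.restrict a) :=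
  Ega2.VeryAmpleAmple.isInvertible_of_iso ((Scheme.Modules.restrictFunctorIsoPullback a).app L).symm
    (isInvertible_pullback a h)

theorem of_opensRange (P : MorphismProperty Scheme.{u}) [P.RespectsIso] {A X Y : Scheme.{u}} (j : A ⟶ X)
    [IsOpenImmersion j] {g : X ⟶ Y} (h : P (j ≫ g)) : P (j.opensRange.ι ≫ g) := by
  rw [← IsOpenImmersion.isoOfRangeEq_inv_fac j (Scheme.Opens.ι _)
    (congr_arg Opens.carrier j.opensRange.opensRange_ι.symm), Category.assoc, P.cancel_left_of_respectsIso]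
  exact h

theorem of_cover₂ (P : MorphismProperty Scheme.{u}) [IsZariskiLocalAtSource P] {A B X Y : Scheme.{u}} (j₁ : A ⟶ X)
    (j₂ : B ⟶ X) [IsOpenImmersion j₁] [IsOpenImmersion j₂] (hc : j₁.opensRange ⊔ j₂.opensRange = ⊤) {g : X ⟶ Y}
    (h₁ : P (j₁ ≫ g)) (h₂ : P (j₂ ≫ g)) : P g := by
  refine IsZariskiLocalAtSource.of_iSup_eq_top (fun b : Bool => cond b j₁.opensRange j₂.opensRange) ?_ ?_
  · rw [iSup_bool_eq]
    exact hc
  · rintro (_ | _)
    · exact of_opensRange P j₂ h₂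
    · exact of_opensRange P j₁ h₁

section

variable {E X S : Scheme.{u}} [IsNoetherian S] (f : X ⟶ S) [LocallyOfFiniteType f] [QuasiCompact f] [IsSeparated f]
  (L : X.Modules) (hL : RelAmple.IsRelAmple f L) (hL1 : PicF.IsInvertible L)
  (ι : E ⟶ X) [IsClosedImmersion ι] (hE : Models.IsExcCurve ι) (s : S) (hs : ∀ e, f (ι e) = s)
  (U : S.Opens) (hU : IsAffineOpen U) (hsU : s ∈ U) (hcl : ∀ z ∈ U, s ⤳ z → z = s)
  (M : X.Modules) (hM : ClSub.IsInverseOf M (ClSub.idealMod ι.ker)) (hM1 : PicF.IsInvertible M)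

include hL hE hs hU hsU hcl hM in
theorem exists_contr : ∃ (X' : Scheme.{u}) (b : X ⟶ X') (g : X' ⟶ S) (d n : ℕ) (L' : X'.Modules)
    (hL' : PicF.IsInvertible L'), Models.IsContractionOf ι b ∧ b ≫ g = f ∧ LocallyOfFiniteType g ∧ 0 < d ∧
      pull b (mk L' hL') = mk L hL1 ^ d * mk M hM1 ^ n ∧ AmpleOn L' (g ⁻¹ᵁ U) := by
  have hNX : IsNoetherian X := by
    have h1 : IsLocallyNoetherian X := LocallyOfFiniteType.isLocallyNoetherian f
    have h2 : CompactSpace X := QuasiCompact.compactSpace_of_compactSpace f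
    exact {}
  have hEint := (Contr.isIntegral_of_isExcCurve hE).1
  have hne : Nonempty E := hEint.nonempty
  -- restriction to the affine open
  let a : (f ⁻¹ᵁ U).toScheme ⟶ X := (f ⁻¹ᵁ U).ι
  have hra : Set.range ι ⊆ Set.range a := by
    rintro _ ⟨e, rfl⟩
    change ι e ∈ Set.range (f ⁻¹ᵁ U).ι
    rw [Scheme.Opens.range_ι]
    change f (ι e) ∈ U
    rw [hs]; exact hsU
  let ι₁ : E ⟶ (f ⁻¹ᵁ U).toScheme := IsOpenImmersion.lift a ι hra
  have hι : ι₁ ≫ a = ι := IsOpenImmersion.lift_fac _ _ _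
  have hι₁ : IsClosedImmersion ι₁ := by
    have : IsClosedImmersion (ι₁ ≫ a) := by rw [hι]; infer_instance
    exact IsClosedImmersion.of_comp ι₁ a
  have hE₁ : Models.IsExcCurve ι₁ := ExcLoc.isExcCurve_of_comp a ι₁ ι hι hE
  let φ : (f ⁻¹ᵁ U).toScheme ⟶ Spec (CommRingCat.of Γ(S, U)) := (f ∣_ U) ≫ hU.isoSpec.hom
  have hRN : IsNoetherianRing Γ(S, U) := IsLocallyNoetherian.component_noetherian ⟨U, hU⟩
  have hφ1 : LocallyOfFiniteType φ := inferInstanceAs (LocallyOfFiniteType ((f ∣_ U) ≫ hU.isoSpec.hom))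
  have hφ2 : IsSeparated φ := inferInstanceAs (IsSeparated ((f ∣_ U) ≫ hU.isoSpec.hom))
  have hpr : IsProper (ι₁ ≫ φ) := by
    refine isProper_of_excCurve φ ι₁ hE₁ (hU.isoSpec.hom ⟨s, hsU⟩) ?_ ?_
    · have h1 : IsClosed (hU.isoSpec.hom '' _) := hU.isoSpec.hom.homeomorph.isClosedMap _
        (isClosed_singleton_opens hsU hcl)
      exact (Set.image_singleton (f := hU.isoSpec.hom) (a := (⟨s, hsU⟩ : U.toScheme))) ▸ h1
    · intro e
      have h1 : (f ∣_ U) (ι₁ e) = ⟨s, hsU⟩ := by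
        refine Subtype.ext ?_
        have h2 : U.ι ((f ∣_ U) (ι₁ e)) = s := by
          rw [← Scheme.Hom.comp_apply, morphismRestrict_ι, Scheme.Hom.comp_apply, ← Scheme.Hom.comp_apply ι₁]
          change f ((ι₁ ≫ a) e) = s
          rw [hι]
          exact hs e
        exact h2
      rw [Scheme.Hom.comp_apply, h1]
  have hLA : CohB1.IsAmple (L.restrict a) := hL.2 ⟨U, hU⟩
  have hLA1 : PicF.IsInvertible (L.restrict a) := hLA.1
  have hI₁ : PicF.IsInvertible (ClSub.idealMod ι₁.ker) := Dix.IdealModCartier.isInvertible_idealMod hE₁.1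
  obtain ⟨M₁, hM₁'⟩ := K434.ZTwist.exists_isInverseOf hI₁
  have hM₁ : ClSub.IsInverseOf M₁ (ClSub.idealMod ι₁.ker) := hM₁'.map fun e' => Ega2.Tens.swap _ _ ≪≫ e'
  have hM₁1 := (K434.ZTwist.isInvertible_of_inverse hM₁).1
  obtain ⟨B, b₁, g₁, d, n, L₁, hL₁, hb₁, hg₁, hg₁f, hd, hL₁a, hL₁e⟩ :=
    LocQuasi.exists_local φ (L.restrict a) hLA ι₁ hE₁ M₁ hM₁ hLA1 hM₁1
  obtain ⟨X', b, j, hj, hb, sq⟩ := GlueContr.exists_glue ι hE a ι₁ hι b₁ hb₁
  obtain ⟨g, hg, -⟩ := Contr.existsUnique_desc ι hE b hb f (fun e e' => by rw [hs, hs])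
  -- the morphism to `S` on the two charts
  have hjg : j ≫ g = g₁ ≫ hU.isoSpec.inv ≫ U.ι := by
    obtain ⟨ψ, -, hψ⟩ := Contr.existsUnique_desc ι₁ hE₁ b₁ hb₁ (a ≫ f) (fun e e' => by
      have h1 : ∀ e, (a ≫ f) (ι₁ e) = s := fun e => by
        rw [Scheme.Hom.comp_apply, ← Scheme.Hom.comp_apply ι₁, hι, hs]
      rw [h1, h1])
    have e1 : b₁ ≫ (j ≫ g) = a ≫ f := by rw [← Category.assoc, ← sq.w, Category.assoc, hg]
    have e2 : b₁ ≫ (g₁ ≫ hU.isoSpec.inv ≫ U.ι) = a ≫ f := by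
      rw [← Category.assoc, hg₁]
      change ((f ∣_ U) ≫ hU.isoSpec.hom) ≫ hU.isoSpec.inv ≫ U.ι = a ≫ f
      rw [Category.assoc, Iso.hom_inv_id_assoc, morphismRestrict_ι]
    exact (hψ _ e1).trans (hψ _ e2).symm
  obtain ⟨hN', hbp, y, hy, hrange, hreg, hdim, hbl⟩ := id hb
  have hex : ∃ x, b x = y := by
    have : y ∈ Set.range ((ι ≫ b).base : E → X') := by rw [hrange]; rfl
    obtain ⟨e, he⟩ := this
    exact ⟨ι e, by rw [← Scheme.Hom.comp_apply]; exact he⟩
  have hsurj : Surjective b := Groth.Agent.Models.H69.Contr.surjective (hy := hy) hbl hex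
  have hisoc := Groth.Agent.Models.H69.Contr.isIso_compl y hy hbl
  have hyj : y ∈ j.opensRange := by
    obtain ⟨x, hx⟩ := hex
    obtain ⟨e₀⟩ := hne
    have h1 : b (ι e₀) = y := by
      have : (ι ≫ b) e₀ ∈ ({y} : Set X') := by rw [← hrange]; exact ⟨e₀, rfl⟩
      rw [Scheme.Hom.comp_apply] at this
      exact this
    refine ⟨b₁ (ι₁ e₀), ?_⟩
    rw [← h1, ← hι, ← Scheme.Hom.comp_apply, ← sq.w]
    simp only [Scheme.Hom.comp_apply]
  have hgft : LocallyOfFiniteType g := by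
    refine of_cover₂ @LocallyOfFiniteType j (Groth.Agent.Models.H69.Contr.compl y hy).ι ?_ ?_ ?_
    · rw [eq_top_iff]
      intro z _
      by_cases hz : z = y
      · subst hz
        exact Or.inl hyj
      · refine Or.inr ?_
        rw [Scheme.Opens.opensRange_ι]
        exact hz
    · rw [hjg]
      infer_instance
    · have h1 : (Groth.Agent.Models.H69.Contr.compl y hy).ι ≫ g =
          inv (b ∣_ (Groth.Agent.Models.H69.Contr.compl y hy)) ≫ (b ⁻¹ᵁ (Groth.Agent.Models.H69.Contr.compl y hy)).ι ≫ f := by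
        rw [IsIso.eq_inv_comp, ← Category.assoc, morphismRestrict_ι, Category.assoc, hg]
      rw [h1]
      infer_instance
  -- the module
  have hlow : pull a (mk L hL1 ^ d * mk M hM1 ^ n) = mk (L.restrict a) hLA1 ^ d * mk M₁ hM₁1 ^ n := by
    rw [map_mul, map_pow, map_pow, pull_restrict a hL1 hLA1, LocQuasi.pull_inverse a ι₁ ι hι hE.1 hM hM₁ hM1 hM₁1]
  obtain ⟨P, hP, hPe⟩ := exists_mk (mk L hL1 ^ d * mk M hM1 ^ n)
  have hP1 : pull ι (mk P hP) = 1 := by
    rw [← hPe, ← hι, pull_comp, hlow, ← hL₁e]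
    exact K373.PicContr.pull_pull_eq_one ι₁ b₁ hb₁ _
  obtain ⟨L', hL', ⟨θ⟩⟩ := K373.PicContr.exists_descent ι b hE hb P hP hP1
  have hbL' : pull b (mk L' hL') = mk L hL1 ^ d * mk M hM1 ^ n := by
    rw [hPe, pull_mk]
    exact mk_congr θ
  have hjL' : pull j (mk L' hL') = mk L₁ hL₁ := by
    refine K373.PicDesc.pull_injective (K373.PicContr.bijective_app ι₁ b₁ hb₁) ?_
    rw [← pull_comp, ← sq.w, pull_comp, hbL', hlow, hL₁e]
  refine ⟨X', b, g, d, n, L', hL', hb, hg, hgft, hd, hbL', ?_⟩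
  have hjr : j.opensRange = g ⁻¹ᵁ U := by
    ext z
    constructor
    · rintro ⟨w, rfl⟩
      change g (j w) ∈ U
      rw [← Scheme.Hom.comp_apply, hjg, Scheme.Hom.comp_apply, Scheme.Hom.comp_apply]
      exact (hU.isoSpec.inv (g₁ w)).2
    · intro hz
      obtain ⟨x, rfl⟩ := b.surjective z
      have hx : x ∈ f ⁻¹ᵁ U := by
        change f x ∈ U
        rw [← hg, Scheme.Hom.comp_apply]
        exact hz
      refine ⟨b₁ ⟨x, hx⟩, ?_⟩
      rw [← Scheme.Hom.comp_apply, ← sq.w, Scheme.Hom.comp_apply]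
      rfl
  rw [← hjr, ← isAmple_restrict_iff]
  have h1 := pull_restrict j hL' (isInvertible_restrict j hL')
  rw [hjL', mk_eq_iff] at h1
  obtain ⟨θ'⟩ := h1
  exact Ega2.Weight.isAmple_of_iso θ' hL₁a

include hL hL1 hE hs hU hsU hcl in
theorem main : ∃ (X' : Scheme.{u}) (b : X ⟶ X') (g : X' ⟶ S), Models.IsContractionOf ι b ∧ b ≫ g = f ∧
    RelProj.IsQuasiProjective g := by
  have hI : PicF.IsInvertible (ClSub.idealMod ι.ker) := Dix.IdealModCartier.isInvertible_idealMod hE.1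
  obtain ⟨M, hM'⟩ := K434.ZTwist.exists_isInverseOf hI
  have hM : ClSub.IsInverseOf M (ClSub.idealMod ι.ker) := hM'.map fun e' => Ega2.Tens.swap _ _ ≪≫ e'
  have hM1 := (K434.ZTwist.isInvertible_of_inverse hM).1
  obtain ⟨σ, hσ⟩ := exists_section hM
  obtain ⟨X', b, g, d, n, L', hL', hb, hg, hgft, hd, hbL', hamp⟩ :=
    exists_contr f L hL hL1 ι hE s hs U hU hsU hcl M hM hM1
  obtain ⟨hE1, hE2⟩ := Contr.isIntegral_of_isExcCurve hE
  have hne : Nonempty E := hE1.nonempty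
  obtain ⟨hN', hbp, y, hy, hrange, hreg, hdim, hbl⟩ := id hb
  have hr : Set.range ι = b ⁻¹' {y} := Groth.Agent.Models.H69.Contr.range_eq (hy := hy) ι hbl hreg hdim hE2 hrange
  have hmem : ∀ e : E, b (ι e) = y := fun e => by
    have h1 : ι e ∈ Set.range ι := ⟨e, rfl⟩
    rw [hr] at h1
    exact h1
  have hgy : g y = s := by
    obtain ⟨e₀⟩ := hne
    rw [← hmem e₀, ← Scheme.Hom.comp_apply, hg, hs]
  have hex : ∃ x, b x = y := by
    obtain ⟨e₀⟩ := hne
    exact ⟨_, hmem e₀⟩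
  have hsurj : Surjective b := Groth.Agent.Models.H69.Contr.surjective (hy := hy) hbl hex
  have hisoc := Groth.Agent.Models.H69.Contr.isIso_compl y hy hbl
  have hqg : QuasiCompact g := inferInstance
  refine ⟨X', b, g, hb, hg, hgft, hqg, L', Ega2.RelAmp.isRelAmple_iff.2 ⟨hqg, fun V => ?_⟩⟩
  have hpre : b ⁻¹ᵁ (g ⁻¹ᵁ V.1) = f ⁻¹ᵁ V.1 := by rw [← hg]; rfl
  obtain ⟨θ⟩ : Nonempty ((Scheme.Modules.pullback b).obj L' ≅
      CohB1.tensorMod (CohB1.tensorPow L d) (CohB1.tensorPow M n)) := by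
    rw [pull_mk, ← mk_tensorPow hL1, ← mk_tensorPow hM1, mk_mul_mk, mk_eq_iff] at hbL'
    exact hbL'
  have hw : Ega2.Weight.Wt L M d n ((Scheme.Modules.pullback b).obj L') := by
    have h1 := (Ega2.Weight.Wt.tensorPow_fst (L := L) (L' := M) d).tensor
      (Ega2.Weight.Wt.tensorPow_snd (L := L) (L' := M) n)
    simp only [Nat.add_zero, Nat.zero_add] at h1
    exact h1.congr_right θ.symm
  have hc : nv M (sec σ ⊤) = b ⁻¹ᵁ (Groth.Agent.Models.H69.Contr.compl y hy) := by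
    ext x
    change x ∈ nv M (sec σ ⊤) ↔ b x ∉ ({y} : Set X')
    rw [nv_sec hσ x]
    refine not_congr ?_
    have h2 : ((ι.ker.support : Set X)) = closure (Set.range ι) := Scheme.Hom.support_ker ι
    rw [ι.isClosedEmbedding.isClosed_range.closure_eq, hr] at h2
    change x ∈ (ι.ker.support : Set X) ↔ _
    rw [h2]
    rfl
  refine AmpDesc.ampleOn (b := b) (K373.PicContr.bijective_app ι b hb) hisoc hL1 hM1 (sec σ ⊤) hc hL' hd hw ?_ ?_ ?_ ?_
  · rw [hpre]
    exact (Ega2.RelAmp.isRelAmple_iff.1 hL).2 V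
  · exact NoetherianSpace.isCompact _
  · exact IsQuasiSeparated.of_quasiSeparatedSpace _
  · intro z hz hzO
    obtain rfl : z = y := by
      by_contra hc'
      exact hzO hc'
    have hsV : s ∈ V.1 := by rw [← hgy]; exact hz
    obtain ⟨h, hhU, hsh⟩ := V.2.exists_basicOpen_le ⟨s, hsU⟩ hsV
    refine ⟨g.app V.1 h, ?_, ?_⟩
    · rw [← Scheme.preimage_basicOpen]
      change g z ∈ S.basicOpen h
      rw [hgy]
      exact hsh
    · rw [← Scheme.preimage_basicOpen]
      exact hamp.mono (g.preimage_mono hhU) (NoetherianSpace.isCompact _)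

end

/-- Contraction of an exceptional curve in a fibre of a quasi-projective morphism. -/
theorem exists_contraction_quasiProjective {E X S : Scheme.{u}} [IsNoetherian S] (f : X ⟶ S)
    (hf : RelProj.IsQuasiProjective f) (ι : E ⟶ X) [IsClosedImmersion ι] (hE : Models.IsExcCurve ι)
    (s : S) (hs : Set.range ((ι ≫ f).base : E → S) = {s}) :
    ∃ (X' : Scheme.{u}) (b : X ⟶ X') (g : X' ⟶ S), Models.IsContractionOf ι b ∧ b ≫ g = f ∧
      RelProj.IsQuasiProjective g := by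
  obtain ⟨h1, h2, L, hL⟩ := hf
  have h3 := Groth.Agent.S9691.result f L hL
  obtain ⟨U, hU, hsU, hcl⟩ := ExcProper.exists_affine f ι s hs
  refine main f L hL (K34.RelAmpInv.isInvertible_of_isRelAmple f hL) ι hE s (fun e => ?_) U hU hsU hcl
  have h4 : (ι ≫ f) e ∈ ({s} : Set S) := by rw [← hs]; exact ⟨e, rfl⟩
  rw [Scheme.Hom.comp_apply] at h4
  exact h4

end K372.QPContr
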