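import Groth.Agent.Resolve.K377.ResQE
import Groth.Agent.CurvesC.Modif
import Groth.Agent.Dix.ContractSurf
import Groth.Agent.Dix.Descend515

/-!
# Resolving finitely many resolvable closed points

`exists_resolution`: an integral locally Noetherian scheme with finitely many non-regular points, all closed with
`Resolvable` local rings, has a modification with regular local rings.
-/

set_option autoImplicit false
universe u

open CategoryTheory CategoryTheory.Limits AlgebraicGeometry TopologicalSpace Opposite
open Groth.Agent Groth.Agent.Models.RMBlow Groth.Agent.CurvesC.Modif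

namespace K372.ResPts

theorem isModif_of_iso {X Y : Scheme.{u}} [IsIntegral Y] (f : X ⟶ Y) [IsIso f] : IsModif f :=
  ⟨inferInstance, IsIntegral.of_isIso (inv f), ⟨⊤, ⟨genericPoint Y, trivial⟩, inferInstance⟩⟩

/-- Iterated resolution of resolvable closed points. -/
theorem exists_resolution_aux (n : ℕ) : ∀ (Z : Scheme.{u}) [IsIntegral Z] [IsLocallyNoetherian Z],
    {z : Z | ¬ IsRegularLocalRing (Z.presheaf.stalk z)}.encard ≤ n →
    (∀ z : Z, ¬ IsRegularLocalRing (Z.presheaf.stalk z) → IsClosed ({z} : Set Z) ∧ Resolvable (Z.presheaf.stalk z)) →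
    ∃ (X : Scheme.{u}) (g : X ⟶ Z), IsModif g ∧ ∀ x : X, IsRegularLocalRing (X.presheaf.stalk x) := by
  induction n with
  | zero =>
    intro Z _ _ h _
    refine ⟨Z, 𝟙 Z, isModif_of_iso _, fun x => ?_⟩
    by_contra hx
    have h1 : {z : Z | ¬ IsRegularLocalRing (Z.presheaf.stalk z)}.encard = 0 := le_antisymm (by simpa using h) zero_le
    rw [Set.encard_eq_zero] at h1
    have : x ∈ {z : Z | ¬ IsRegularLocalRing (Z.presheaf.stalk z)} := hx
    rw [h1] at this
    exact this
  | succ n ih =>
    intro Z _ _ h hres
    by_cases hall : ∀ z : Z, IsRegularLocalRing (Z.presheaf.stalk z)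
    · exact ⟨Z, 𝟙 Z, isModif_of_iso _, hall⟩
    push Not at hall
    obtain ⟨z, hz⟩ := hall
    obtain ⟨hzc, hzr⟩ := hres z hz
    obtain ⟨Z', b, 𝓘, hb, hft, hsupp, hreg⟩ := exists_blowUp z hzc hzr
    have hI0 : 𝓘 ≠ ⊥ := by
      intro h0
      rw [h0, Scheme.IdealSheafData.support_bot] at hsupp
      have h1 : genericPoint Z = z := hsupp trivial
      apply hz
      rw [← h1]
      exact inferInstanceAs (IsRegularLocalRing Z.functionField)
    have hm := IsModif.of_isBlowUp hI0 hft hb
    have hint := hm.integral
    have hprop := hm.proper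
    have hN : IsLocallyNoetherian Z' := LocallyOfFiniteType.isLocallyNoetherian b
    let V : Z.Opens := ⟨{z}ᶜ, hzc.isOpen_compl⟩
    have hV : IsIso (b ∣_ V) := by
      refine Divis.BlowUpFormal.isIso_morphismRestrict_compl_support hb _ ?_
      rw [Set.disjoint_left]
      intro w hw hw'
      exact hw (hsupp hw')
    have hst : ∀ z' : Z', b z' ≠ z → IsIso (b.stalkMap z') := fun z' hz' =>
      Dix.ContractSurf.isIso_stalkMap b V z' hz'
    have hinj : ∀ z' z'' : Z', b z' ≠ z → b z' = b z'' → z' = z'' := fun z' z'' hz' he =>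
      Dix.Descend515.inj_of b V hV z' z'' hz' he
    have hne : ∀ z' : Z', ¬ IsRegularLocalRing (Z'.presheaf.stalk z') → b z' ≠ z := fun z' hz' hc =>
      hz' (hreg z' hc)
    have hns : ∀ z' : Z', ¬ IsRegularLocalRing (Z'.presheaf.stalk z') →
        ¬ IsRegularLocalRing (Z.presheaf.stalk (b z')) := by
      intro z' hz' hc
      have := hst z' (hne z' hz')
      exact hz' (IsRegularLocalRing.of_ringEquiv (asIso (b.stalkMap z')).commRingCatIsoToRingEquiv)
    have hcard : {z' : Z' | ¬ IsRegularLocalRing (Z'.presheaf.stalk z')}.encard ≤ n := by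
      have h1 : {z' : Z' | ¬ IsRegularLocalRing (Z'.presheaf.stalk z')}.encard ≤
          ({z : Z | ¬ IsRegularLocalRing (Z.presheaf.stalk z)} \ {z}).encard := by
        refine Set.encard_le_encard_of_injOn (f := b) (fun z' hz' => ⟨hns z' hz', hne z' hz'⟩) ?_
        intro z' hz' z'' _ he
        exact hinj z' z'' (hne z' hz') he
      refine h1.trans ?_
      have h2 := Set.encard_sdiff_singleton_add_one (s := {z : Z | ¬ IsRegularLocalRing (Z.presheaf.stalk z)}) hz
      rw [← h2] at h
      push_cast at h
      exact (ENat.add_le_add_iff_right (by simp)).mp h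
    obtain ⟨X, g, hg, hX⟩ := ih Z' hcard (fun z' hz' => by
      obtain ⟨h1, h2⟩ := hres (b z') (hns z' hz')
      refine ⟨?_, ?_⟩
      · have h3 : ({z'} : Set Z') = b ⁻¹' {b z'} := by
          ext w
          constructor
          · rintro rfl; rfl
          · intro hw
            exact (hinj z' w (hne z' hz') (Eq.symm hw)).symm
        rw [h3]
        exact h1.preimage b.continuous
      · have := hst z' (hne z' hz')
        exact K377.ResQE.resolvable_of_ringEquiv
          (asIso (b.stalkMap z')).commRingCatIsoToRingEquiv.symm h2)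
    exact ⟨X, g ≫ b, hg.comp hm, hX⟩

/-- An integral locally Noetherian scheme with finitely many non-regular points, all closed with `Resolvable` local
rings, has a modification with regular local rings. -/
theorem exists_resolution (Z : Scheme.{u}) [IsIntegral Z] [IsLocallyNoetherian Z]
    (hfin : {z : Z | ¬ IsRegularLocalRing (Z.presheaf.stalk z)}.Finite)
    (hres : ∀ z : Z, ¬ IsRegularLocalRing (Z.presheaf.stalk z) →
      IsClosed ({z} : Set Z) ∧ Resolvable (Z.presheaf.stalk z)) :
    ∃ (X : Scheme.{u}) (g : X ⟶ Z), IsModif g ∧ ∀ x : X, IsRegularLocalRing (X.presheaf.stalk x) :=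
  exists_resolution_aux _ Z hfin.encard_eq_coe.le hres

end K372.ResPts
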