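import Groth.Agent.Resolve.K372.NormFac
import Groth.Agent.Resolve.K372.CplAlt
import Groth.Agent.Resolve.K372.ResPts
import Groth.Agent.CurvesB.N1OfNormal
import Groth.Agent.CurvesC.RegNormal

/-!
# Lipman's theorem: resolution of surfaces

* `of_alteration`: a regular alteration of a Noetherian integral surface forces the normalization to be finite with
  finitely many singular points and normal completions.
* `exists_resolution`: the converse.
-/

set_option autoImplicit false
universe u

open CategoryTheory CategoryTheory.Limits AlgebraicGeometry TopologicalSpace Opposite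
open Groth.Agent Groth.Agent.Models.RMBlow Groth.Agent.CurvesC.Modif

namespace K372.ResTfae

theorem isNormalScheme_of_regular {X : Scheme.{u}} (hreg : ∀ x : X, IsRegularLocalRing (X.presheaf.stalk x)) :
    Pi1.IsNormalScheme X := fun x => by
  have := hreg x
  exact ⟨CurvesC.RegNormal.isDomain _, CurvesC.RegNormal.isIntegrallyClosed _⟩

/-- A proper dominant morphism from a normal scheme forces the normalization to be finite. -/
theorem isFinite_normalizationι_of_proper {X Y : Scheme.{u}} [IsIntegral X] [IsIntegral Y] [IsLocallyNoetherian Y]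
    [QuasiCompact (Y.fromSpecStalk (genericPoint Y))] [QuasiSeparated (Y.fromSpecStalk (genericPoint Y))]
    (g : X ⟶ Y) [IsProper g] [IsDominant g] (hX : Pi1.IsNormalScheme X) : IsFinite (Curv2.normalizationι Y) := by
  rw [NormFac.isFinite_normalizationι_iff]
  intro V hV hne
  have hN : IsNoetherianRing Γ(Y, V) := IsLocallyNoetherian.component_noetherian ⟨V, hV⟩
  have hsurj : Surjective g := surjective_of_isDominant_of_isClosed_range g g.isClosedMap.isClosed_range
  obtain ⟨⟨v, hv⟩⟩ := hne
  obtain ⟨x, rfl⟩ := hsurj.surj v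
  have hne' : Nonempty (g ⁻¹ᵁ V) := ⟨⟨x, hv⟩⟩
  have hne'' : Nonempty V := ⟨⟨_, hv⟩⟩
  let h : (g ⁻¹ᵁ V).toScheme ⟶ Spec (CommRingCat.of Γ(Y, V)) := (g ∣_ V) ≫ hV.isoSpec.hom
  have hs : Surjective (g ∣_ V) := MorphismProperty.of_isPullback (isPullback_morphismRestrict g V).flip hsurj
  have hs2 : Surjective h := inferInstance
  have hp : IsProper h := inferInstance
  refine CurvesB.N1OfNormal.isN1 Γ(Y, V) (g ⁻¹ᵁ V).toScheme h (fun z => ?_) inferInstance
  obtain ⟨h1, h2⟩ := hX ((g ⁻¹ᵁ V).ι z)
  let e := (asIso ((g ⁻¹ᵁ V).ι.stalkMap z)).commRingCatIsoToRingEquiv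
  exact ⟨e.symm.toMulEquiv.isDomain _, IsIntegrallyClosed.of_equiv e⟩

theorem isDominant_of_map_genericPoint {X Y : Scheme.{u}} [IsIntegral X] [IsIntegral Y] (g : X ⟶ Y)
    (h : g (genericPoint X) = genericPoint Y) : IsDominant g := by
  refine ⟨?_⟩
  rw [DenseRange, dense_iff_closure_eq]
  rw [← Set.univ_subset_iff, ← (genericPoint_spec Y).def]
  exact closure_mono (Set.singleton_subset_iff.mpr ⟨_, h⟩)

theorem map_genericPoint {X Y : Scheme.{u}} [IsIntegral X] [IsIntegral Y] (g : X ⟶ Y) [IsDominant g] :
    g (genericPoint X) = genericPoint Y := by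
  have h := (genericPoint_spec X).image g.continuous
  rw [Set.image_univ, g.denseRange.closure_range] at h
  exact h.eq (genericPoint_spec Y)

/-- The properties of the normalization of a surface with a regular alteration. -/
theorem of_alteration {X Y : Scheme.{u}} [IsIntegral X] [IsIntegral Y] [IsNoetherian Y]
    (hdim : ∀ y : Y, ringKrullDim (Y.presheaf.stalk y) ≤ 2)
    [QuasiCompact (Y.fromSpecStalk (genericPoint Y))] [QuasiSeparated (Y.fromSpecStalk (genericPoint Y))]
    (g : X ⟶ Y) [IsProper g] [IsDominant g] (hreg : ∀ x : X, IsRegularLocalRing (X.presheaf.stalk x)) :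
    IsFinite (Curv2.normalizationι Y) ∧
        {y : ↥(Curv2.normalization Y) | ¬ IsRegularLocalRing ((Curv2.normalization Y).presheaf.stalk y)}.Finite ∧
        ∀ y : ↥(Curv2.normalization Y), IsDomain (Curv2.cpl ((Curv2.normalization Y).presheaf.stalk y)) ∧
          IsIntegrallyClosed (Curv2.cpl ((Curv2.normalization Y).presheaf.stalk y)) := by
  have hXn := isNormalScheme_of_regular hreg
  have hfin := isFinite_normalizationι_of_proper g hXn
  obtain ⟨hint, hnorm, -, -⟩ := Groth.Agent.S2351.result Y
  have hXN : IsNoetherian X := by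
    have : CompactSpace X := QuasiCompact.compactSpace_of_compactSpace g
    have : IsLocallyNoetherian X := LocallyOfFiniteType.isLocallyNoetherian g
    exact {}
  have hYN : IsNoetherian (Curv2.normalization Y) := by
    have : CompactSpace (Curv2.normalization Y) := QuasiCompact.compactSpace_of_compactSpace (Curv2.normalizationι Y)
    have : IsLocallyNoetherian (Curv2.normalization Y) :=
      LocallyOfFiniteType.isLocallyNoetherian (Curv2.normalizationι Y)
    exact {}
  have hg := map_genericPoint g
  obtain ⟨h, hh⟩ := NormFac.exists_fac hXn g hg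
  have hp : IsProper h := by
    have : IsProper (h ≫ Curv2.normalizationι Y) := by rw [hh]; infer_instance
    exact IsProper.of_comp h (Curv2.normalizationι Y)
  have hν := (NormFac.isModif_normalizationι Y hfin)
  have hhg : h (genericPoint X) = genericPoint (Curv2.normalization Y) := by
    have h1 : Curv2.normalizationι Y (h (genericPoint X)) = genericPoint Y := by
      rw [← Scheme.Hom.comp_apply, hh, hg]
    have h2 : Curv2.normalizationι Y (genericPoint (Curv2.normalization Y)) = genericPoint Y := by
      have hs := hν.surjective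
      exact map_genericPoint (Curv2.normalizationι Y)
    exact (Fdesc.IntegralFib.eq_of_specializes_of_isIntegralHom (Curv2.normalizationι Y)
      ((genericPoint_spec (Curv2.normalization Y)).specializes trivial) (h2.trans h1.symm)).symm
  have hdim' : ∀ y : (Curv2.normalization Y), ringKrullDim ((Curv2.normalization Y).presheaf.stalk y) ≤ 2 := fun y =>
    (FinSing.ringKrullDim_stalk_le_of_isIntegralHom (Curv2.normalizationι Y) y).trans (hdim _)
  exact ⟨hfin, FinSing.finite_not_regular h hhg hnorm hdim' hreg, fun y =>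
    CplAlt.isIntegrallyClosed_cpl_stalk h hhg hreg y (hnorm y)⟩

/-- The converse. -/
theorem exists_resolution {Y : Scheme.{u}} [IsIntegral Y] [IsNoetherian Y]
    (hdim : ∀ y : Y, ringKrullDim (Y.presheaf.stalk y) ≤ 2)
    [QuasiCompact (Y.fromSpecStalk (genericPoint Y))] [QuasiSeparated (Y.fromSpecStalk (genericPoint Y))]
    (hfin : IsFinite (Curv2.normalizationι Y))
    (hsing : {y : ↥(Curv2.normalization Y) | ¬ IsRegularLocalRing ((Curv2.normalization Y).presheaf.stalk y)}.Finite)
    (hcpl : ∀ y : ↥(Curv2.normalization Y), ¬ IsRegularLocalRing ((Curv2.normalization Y).presheaf.stalk y) →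
      IsDomain (Curv2.cpl ((Curv2.normalization Y).presheaf.stalk y)) ∧
        IsIntegrallyClosed (Curv2.cpl ((Curv2.normalization Y).presheaf.stalk y))) :
    ∃ (X : Scheme.{u}) (g : X ⟶ Y), IsModif g ∧ ∀ x : X, IsRegularLocalRing (X.presheaf.stalk x) := by
  obtain ⟨hint, hnorm, -, -⟩ := Groth.Agent.S2351.result Y
  have hYN : IsLocallyNoetherian (Curv2.normalization Y) :=
    LocallyOfFiniteType.isLocallyNoetherian (Curv2.normalizationι Y)
  have hdim' : ∀ y : (Curv2.normalization Y), ringKrullDim ((Curv2.normalization Y).presheaf.stalk y) ≤ 2 := fun y =>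
    (FinSing.ringKrullDim_stalk_le_of_isIntegralHom (Curv2.normalizationι Y) y).trans (hdim _)
  obtain ⟨X, g, hg, hreg⟩ := ResPts.exists_resolution (Curv2.normalization Y) hsing (fun y hy => by
    obtain ⟨h1, h2⟩ := hcpl y hy
    obtain ⟨hd, hic⟩ := hnorm y
    have h3 : 2 ≤ ringKrullDim ((Curv2.normalization Y).presheaf.stalk y) := by
      by_contra hlt
      apply hy
      have h4 : ringKrullDim ((Curv2.normalization Y).presheaf.stalk y) ≤ 1 := by
        rw [ringKrullDim_stalk_eq_coheight] at hlt ⊢
        have h5 : ¬ (2 : ℕ∞) ≤ Order.coheight y := fun h => hlt (WithBot.coe_le_coe.mpr h)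
        rw [not_le] at h5
        have h6 : Order.coheight y ≤ 1 := Order.le_of_lt_add_one (by rwa [one_add_one_eq_two])
        exact_mod_cast h6
      exact FinSing.isRegular_of_normal _ h4
    exact ⟨FinSing.isClosed_of_two_le hdim' y h3, K377.ResQE.resolvable _ (le_antisymm (hdim' y) h3)⟩)
  exact ⟨X, g ≫ Curv2.normalizationι Y, hg.comp (NormFac.isModif_normalizationι Y hfin), hreg⟩

end K372.ResTfae
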